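import Mathlib
import Cfsg.Agent.H189.FeitTits
import Cfsg.Agent.Lib.ElemAbGL
import Cfsg.Agent.Lib.MinNormalNonabelian
import Cfsg.Agent.SolvableStructure.HuppertPrimeIndex
import Cfsg.Agent.H427.CsQuot
import Cfsg.Agent.H363.AltPrimes
import Cfsg.Agent.H357.NT
import Cfsg.Agent.H357.Large
import Cfsg.Agent.H357.Main
import Cfsg.Agent.H357.Recog
import Cfsg.Agent.SmallSimple.SelfCentPrime
import Cfsg.Agent.H367.ClsList
import Cfsg.Agent.H341.ThreeList_m3
import Cfsg.Agent.FastGrp
import Cfsg.Agent.Prune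
set_option linter.all false

section
prune_inst 0x7fbdfef8bbb8a5deffff7e7ffef9dffe3994dfffefdffb43ffed7bffafdf236719e5fb8d1de458fece16c2b610b87813fb7eceffeb6bdc7ffffd5ff45ffbee0fe5ffbd0511d7a9340f7c0ffff3f27f8e7f3fffffffffffffffffffffffffffffffffffffffff

-- part: H427/CsFin
section
prune_inst 0x400000000000000000000202000000000000000000000000000000000000000000000000000000000000000000000000000000000000000000000000002000000000000000000000000000000000000000000000000000000000000000000000
set_option linter.all false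
open scoped Cfsg.Agent.FastGrp

-- part: H427/CsCent
section
/-!
# Groups with quotient `A_m` acting on small groups (helper427)

`centralizes_ker` : `π : L → A_m` surjective, the Sylow subgroups of the kernel have small rank,
`p` divides `m! / 2`, `p²` does not divide `|L|`: elements of order `p` centralize the kernel.
-/

set_option autoImplicit false

namespace Cfsg.Agent.H427.Cs

open Subgroup
open scoped Pointwise

theorem mem_of_normal {H : Type*} [Group H] [Finite H] {p : ℕ} (hp : p.Prime) (hp2 : ¬ p ^ 2 ∣ Nat.card H)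
    (K : Subgroup H) [K.Normal] (hK : p ∣ Nat.card K) {x : H} (hx : orderOf x = p) : x ∈ K := by
  have h1 : ¬ p ∣ K.index := by
    intro h
    apply hp2
    rw [← K.card_mul_index, pow_two]
    exact Nat.mul_dvd_mul hK h
  have h2 : orderOf (QuotientGroup.mk' K x) ∣ p := by
    rw [← hx]
    exact orderOf_map_dvd _ x
  have h3 : orderOf (QuotientGroup.mk' K x) ∣ K.index := by
    rw [Subgroup.index_eq_card]
    exact _root_.orderOf_dvd_natCard _
  rcases (Nat.dvd_prime hp).mp h2 with h4 | h4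
  · rw [orderOf_eq_one_iff] at h4
    exact (QuotientGroup.eq_one_iff x).mp h4
  · rw [h4] at h3
    exact absurd h3 h1

/-- a minimal normal `t`-subgroup is elementary abelian -/
theorem elab_of_min {Q : Type*} [Group Q] [Finite Q] {t : ℕ} (ht : t.Prime) (V : Subgroup Q) [V.Normal]
    (hV : IsPGroup t V) (hV0 : V ≠ ⊥) (hmin : ∀ L : Subgroup Q, L.Normal → L ≤ V → L = ⊥ ∨ L = V) :
    (∀ x ∈ V, ∀ y ∈ V, Commute x y) ∧ ∀ x ∈ V, x ^ t = 1 := by
  have hF : Fact t.Prime := ⟨ht⟩
  have hnt : Nontrivial V := (Subgroup.nontrivial_iff_ne_bot V).mpr hV0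
  have hZ := hV.center_nontrivial
  have hZn : ((center V).map V.subtype).Normal := inferInstance
  have hab : ∀ x ∈ V, ∀ y ∈ V, Commute x y := by
    rcases hmin _ hZn (Subgroup.map_subtype_le _) with h | h
    · exfalso
      rw [Subgroup.map_eq_bot_iff_of_injective _ V.subtype_injective] at h
      rw [Subgroup.nontrivial_iff_ne_bot] at hZ
      exact hZ h
    · intro x hx y hy
      rw [← h] at hx
      obtain ⟨x', hx', rfl⟩ := hx
      have := mem_center_iff.mp hx' ⟨y, hy⟩
      exact (congrArg Subtype.val this).symm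
  refine ⟨hab, ?_⟩
  obtain ⟨q, hq, hqV, hexp⟩ := Cfsg.Agent.Lib.MinNormalNonabelian.abelian_structure V hV0 hmin hab
  have hqt : q = t := by
    obtain ⟨v, hv⟩ := exists_ne (1 : V)
    have hqF : Fact q.Prime := ⟨hq⟩
    have h1 : orderOf v = q := orderOf_eq_prime (Subtype.ext (hexp v v.2)) hv
    obtain ⟨k, hk⟩ := (isPGroup_iff_orderOf_dvd_pow.mp hV) v
    rw [h1] at hk
    exact (Nat.prime_dvd_prime_iff_eq hq ht).mp (hq.dvd_of_dvd_pow hk)
  rw [← hqt]
  exact hexp

theorem centralizes_pgroup {H : Type*} [Group H] [Finite H] {t m p : ℕ} (ht : t.Prime) (hm : 9 ≤ m)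
    (R : Subgroup H) [R.Normal] (hR : IsPGroup t R) (hcard : Nat.card R < t ^ (m - 2))
    (π : H →* alternatingGroup (Fin m)) (hπ : Function.Surjective π) (hp : p.Prime) (hpt : p ≠ t)
    (hpm : p ∣ Nat.card (alternatingGroup (Fin m))) (hp2 : ¬ p ^ 2 ∣ Nat.card H) (x : H) (hx : orderOf x = p) :
    ∀ y ∈ R, x * y * x⁻¹ * y⁻¹ = 1 := by
  have hF : Fact t.Prime := ⟨ht⟩
  have key := Cfsg.Agent.SolvableStructure.HuppertPrimeIndex.comm_mem_of_chain R ⊥ hR x
    (by rw [hx]; exact (Nat.coprime_primes hp ht).2 hpt) ?_ ⊥ Subgroup.normal_bot le_rfl bot_le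
  · intro y hy
    exact mem_bot.mp (key y hy)
  intro A B hA hB _ hAB hBR hmin
  have hBn : (B.map (QuotientGroup.mk' A)).Normal := hB.map _ (QuotientGroup.mk'_surjective A)
  have hVp : IsPGroup t (B.map (QuotientGroup.mk' A)) := (hR.to_le hBR).map _
  have hV0 : B.map (QuotientGroup.mk' A) ≠ ⊥ := by
    intro h
    rw [Subgroup.map_eq_bot_iff, QuotientGroup.ker_mk'] at h
    exact absurd h (not_le_of_gt hAB)
  have hVmin : ∀ L : Subgroup (H ⧸ A), L.Normal → L ≤ B.map (QuotientGroup.mk' A) →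
      L = ⊥ ∨ L = B.map (QuotientGroup.mk' A) := by
    intro L hL hLB
    by_cases hL0 : L = ⊥
    · exact Or.inl hL0
    right
    have h1 : A ≤ L.comap (QuotientGroup.mk' A) := by
      intro a ha
      have h0 : QuotientGroup.mk' A a = 1 := (QuotientGroup.eq_one_iff a).mpr ha
      rw [mem_comap, h0]
      exact one_mem _
    have h2 : A < L.comap (QuotientGroup.mk' A) := by
      refine lt_of_le_of_ne h1 fun h3 => hL0 ?_
      rw [eq_bot_iff]
      intro z hz
      obtain ⟨a, rfl⟩ := QuotientGroup.mk'_surjective A z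
      have : a ∈ L.comap (QuotientGroup.mk' A) := hz
      rw [← h3] at this
      exact mem_bot.mpr ((QuotientGroup.eq_one_iff a).mpr this)
    have h3 : L.comap (QuotientGroup.mk' A) ≤ B := by
      intro a ha
      obtain ⟨b, hb, hba⟩ := hLB (mem_comap.mp ha)
      have h4 : b⁻¹ * a ∈ A := QuotientGroup.eq.mp hba
      have h5 := B.mul_mem hb (hAB.le h4)
      rwa [mul_inv_cancel_left] at h5
    have h4 := hmin _ (hL.comap _) h2 h3
    rw [← h4, Subgroup.map_comap_eq_self_of_surjective (QuotientGroup.mk'_surjective A)]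
  obtain ⟨hab, hexp⟩ := elab_of_min ht _ hVp hV0 hVmin
  -- the action
  let φ : H →* MulAut (B.map (QuotientGroup.mk' A)) := (MulAut.conjNormal : (H ⧸ A) →*
    MulAut (B.map (QuotientGroup.mk' A))).comp (QuotientGroup.mk' A)
  obtain ⟨d, hd⟩ := IsPGroup.iff_card.mp hVp
  obtain ⟨eGL⟩ : Nonempty (MulAut (B.map (QuotientGroup.mk' A)) ≃* Matrix.GeneralLinearGroup (Fin d) (ZMod t)) := by
    let _ : CommGroup (B.map (QuotientGroup.mk' A)) :=
      { (inferInstance : Group (B.map (QuotientGroup.mk' A))) with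
        mul_comm := fun a b => Subtype.ext (hab a a.2 b b.2) }
    exact Cfsg.Agent.Lib.ElemAbGL.mulAut_equiv_GL t d (fun a => Subtype.ext (hexp a a.2)) hd
  have hdm : d < m - 2 := by
    have h1 : Nat.card (B.map (QuotientGroup.mk' A)) ≤ Nat.card R :=
      (Nat.le_of_dvd Nat.card_pos (Subgroup.card_map_dvd _ _)).trans (Subgroup.card_le_of_le hBR)
    rw [hd] at h1
    exact (Nat.pow_lt_pow_iff_right ht.one_lt).mp (h1.trans_lt hcard)
  obtain ⟨g, hg1, hg2⟩ : ∃ g : H, φ g = 1 ∧ π g ≠ 1 := by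
    by_contra hcon
    push Not at hcon
    let ρ : H →* Module.End (ZMod t) (Fin d → ZMod t) :=
      ((Matrix.toLinAlgEquiv' : Matrix (Fin d) (Fin d) (ZMod t) ≃ₐ[ZMod t] _).toAlgHom.toRingHom.toMonoidHom.comp
        (Units.coeHom (Matrix (Fin d) (Fin d) (ZMod t)))).comp (eGL.toMonoidHom.comp φ)
    have h1 := Cfsg.Agent.H189.FeitTits.feit_tits (k := ZMod t) t (V := Fin d → ZMod t) hm π hπ ρ (by
      intro g hg
      apply hcon
      apply eGL.injective
      rw [map_one]
      apply Units.ext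
      apply (Matrix.toLinAlgEquiv' : Matrix (Fin d) (Fin d) (ZMod t) ≃ₐ[ZMod t] _).injective
      rw [Units.val_one, map_one]
      exact hg)
    rw [Module.finrank_fin_fun] at h1
    split_ifs at h1 <;> omega
  -- the kernel
  have hKp : p ∣ Nat.card φ.ker := by
    have hsimp : IsSimpleGroup (alternatingGroup (Fin m)) := by
      apply alternatingGroup.isSimpleGroup
      simp only [Nat.card_eq_fintype_card, Fintype.card_fin]
      omega
    have h1 : (φ.ker.map π).Normal := (inferInstance : φ.ker.Normal).map π hπ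
    rcases h1.eq_bot_or_eq_top with h2 | h2
    · exfalso
      apply hg2
      have : π g ∈ φ.ker.map π := ⟨g, hg1, rfl⟩
      rw [h2] at this
      exact mem_bot.mp this
    · have h3 := Subgroup.card_map_dvd φ.ker π
      rw [h2, Subgroup.card_top] at h3
      exact hpm.trans h3
  have hxK := mem_of_normal hp hp2 φ.ker hKp hx
  intro b hb
  have h5 : φ x = 1 := hxK
  have h6 : QuotientGroup.mk' A b ∈ B.map (QuotientGroup.mk' A) := ⟨b, hb, rfl⟩
  have h7 := congrArg (fun f : MulAut (B.map (QuotientGroup.mk' A)) => ((f ⟨_, h6⟩ :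
    B.map (QuotientGroup.mk' A)) : H ⧸ A)) h5
  have h8 : QuotientGroup.mk' A x * QuotientGroup.mk' A b * (QuotientGroup.mk' A x)⁻¹ = QuotientGroup.mk' A b := h7
  have h9 : QuotientGroup.mk' A (x * b * x⁻¹ * b⁻¹) = 1 := by
    rw [map_mul, map_mul, map_mul, map_inv, map_inv, h8, mul_inv_cancel]
  exact (QuotientGroup.eq_one_iff _).mp h9

theorem exists_conj {L : Type*} [Group L] [Finite L] {p : ℕ} (hp : p.Prime) (hp2 : ¬ p ^ 2 ∣ Nat.card L) {x y : L}
    (hx : orderOf x = p) (hy : orderOf y = p) : ∃ (g : L) (j : ℕ), x = g * y ^ j * g⁻¹ := by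
  have hF : Fact p.Prime := ⟨hp⟩
  have h1 : (Nat.card L).factorization p = 1 := by
    have h2 : p ∣ Nat.card L := by rw [← hx]; exact _root_.orderOf_dvd_natCard x
    have h3 : 1 ≤ (Nat.card L).factorization p := (hp.dvd_iff_one_le_factorization Nat.card_pos.ne').mp h2
    have h4 : ¬ 2 ≤ (Nat.card L).factorization p := fun h =>
      hp2 ((hp.pow_dvd_iff_le_factorization Nat.card_pos.ne').mpr h)
    omega
  let P : Sylow p L := Sylow.ofCard (zpowers x) (by rw [Nat.card_zpowers, hx, h1, pow_one])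
  let Q : Sylow p L := Sylow.ofCard (zpowers y) (by rw [Nat.card_zpowers, hy, h1, pow_one])
  obtain ⟨g, hg⟩ := MulAction.exists_smul_eq L Q P
  have h2 : x ∈ (g • Q : Sylow p L) := by
    rw [hg]
    exact mem_zpowers x
  have h3 : x ∈ MulAut.conj g • (Q : Subgroup L) := h2
  rw [Subgroup.mem_pointwise_smul_iff_inv_smul_mem] at h3
  have h4 : (MulAut.conj g)⁻¹ • x ∈ zpowers y := h3
  have h5 : (MulAut.conj g)⁻¹ • x = g⁻¹ * x * g := by
    rw [MulAut.smul_def, ← map_inv, MulAut.conj_apply, inv_inv]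
  rw [h5] at h4
  obtain ⟨j, hj⟩ := (mem_powers_iff_mem_zpowers (x := y)).mpr h4
  refine ⟨g, j, ?_⟩
  have hj' : y ^ j = g⁻¹ * x * g := hj
  rw [hj']
  group

theorem centralizes_ker {L : Type*} [Group L] [Finite L] {m p : ℕ} (hm : 9 ≤ m)
    (π : L →* alternatingGroup (Fin m)) (hπ : Function.Surjective π) (hp : p.Prime)
    (hpm : p ∣ Nat.card (alternatingGroup (Fin m))) (hp2 : ¬ p ^ 2 ∣ Nat.card L)
    (hv : ∀ t : ℕ, t.Prime → (Nat.card π.ker).factorization t < m - 2) (x : L) (hx : orderOf x = p) :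
    ∀ y ∈ π.ker, x * y = y * x := by
  have hpF : Fact p.Prime := ⟨hp⟩
  have hpN : ¬ p ∣ Nat.card π.ker := by
    intro h
    apply hp2
    have h1 := π.ker.card_mul_index
    rw [Subgroup.index_ker, MonoidHom.range_eq_top.mpr hπ, Subgroup.card_top] at h1
    rw [← h1, pow_two]
    exact Nat.mul_dvd_mul h hpm
  -- the full Sylow subgroups
  have hfull : ∀ t : ℕ, t.Prime → t ^ (Nat.card π.ker).factorization t ∣
      Nat.card ((centralizer ({x} : Set L)) ⊓ π.ker : Subgroup L) := by
    intro t ht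
    have htF : Fact t.Prime := ⟨ht⟩
    by_cases htN : t ∣ Nat.card π.ker
    swap
    · rw [Nat.factorization_eq_zero_of_not_dvd htN, pow_zero]
      exact one_dvd _
    have hpt : p ≠ t := fun h => hpN (h ▸ htN)
    let R : Sylow t π.ker := default
    have hRc : Nat.card (R.1.map π.ker.subtype) = t ^ (Nat.card π.ker).factorization t := by
      rw [Subgroup.card_map_of_injective π.ker.subtype_injective]
      exact R.card_eq_multiplicity
    have hfr := R.normalizer_sup_eq_top
    have hRN : R.1.map π.ker.subtype ≤ π.ker := Subgroup.map_subtype_le _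
    -- the normalizer
    have hle : R.1.map π.ker.subtype ≤ normalizer ((R.1.map π.ker.subtype : Subgroup L) : Set L) := le_normalizer
    have hHs : Function.Surjective (π.comp (normalizer ((R.1.map π.ker.subtype : Subgroup L) : Set L)).subtype) := by
      intro a
      obtain ⟨l, rfl⟩ := hπ a
      have hl : l ∈ normalizer ((R.1.map π.ker.subtype : Subgroup L) : Set L) ⊔ π.ker := by
        rw [hfr]
        exact mem_top l
      rw [sup_comm] at hl
      obtain ⟨u, hu, w, hw, rfl⟩ := mem_sup_of_normal_left.mp hl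
      refine ⟨⟨w, hw⟩, ?_⟩
      rw [map_mul, show π u = 1 from hu, one_mul]
      rfl
    have hHp2 : ¬ p ^ 2 ∣ Nat.card (normalizer ((R.1.map π.ker.subtype : Subgroup L) : Set L)) := fun h =>
      hp2 (h.trans (Subgroup.card_subgroup_dvd_card _))
    have hHp : p ∣ Nat.card (normalizer ((R.1.map π.ker.subtype : Subgroup L) : Set L)) := by
      have h1 := Subgroup.card_range_dvd (π.comp (normalizer ((R.1.map π.ker.subtype : Subgroup L) : Set L)).subtype)
      rw [MonoidHom.range_eq_top.mpr hHs, Subgroup.card_top] at h1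
      exact hpm.trans h1
    obtain ⟨y, hy⟩ := exists_prime_orderOf_dvd_card' p hHp
    have hcc := centralizes_pgroup ht hm
      ((R.1.map π.ker.subtype).subgroupOf (normalizer ((R.1.map π.ker.subtype : Subgroup L) : Set L)))
      ((R.2.map _).comap_subtype) (by
        rw [Nat.card_congr (Subgroup.subgroupOfEquivOfLe hle).toEquiv, hRc]
        exact Nat.pow_lt_pow_right ht.one_lt (hv t ht)) _ hHs hp hpt hpm hHp2 y hy
    have hyL : orderOf (y : L) = p := by rw [Subgroup.orderOf_coe]; exact hy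
    have hcy : ∀ r ∈ R.1.map π.ker.subtype, (y : L) * r = r * y := by
      intro r hr
      have h1 := hcc ⟨r, hle hr⟩ (mem_subgroupOf.mpr hr)
      have h2 : (y : L) * r * (y : L)⁻¹ * r⁻¹ = 1 := congrArg Subtype.val h1
      calc (y : L) * r = (y : L) * r * (y : L)⁻¹ * r⁻¹ * (r * y) := by group
        _ = r * y := by rw [h2, one_mul]
    obtain ⟨g, j, hgj⟩ := exists_conj hp hp2 hx hyL
    -- the conjugate of `R`
    have h6 : (R.1.map π.ker.subtype).map (MulAut.conj g).toMonoidHom ≤ centralizer ({x} : Set L) ⊓ π.ker := by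
      rintro z ⟨r, hr, rfl⟩
      refine mem_inf.mpr ⟨?_, ?_⟩
      · rw [mem_centralizer_singleton_iff]
        change (g * r * g⁻¹) * x = x * (g * r * g⁻¹)
        have h7 : Commute (y : L) r := hcy r hr
        have h8 := (h7.pow_left j).eq
        rw [hgj]
        calc g * r * g⁻¹ * (g * (y : L) ^ j * g⁻¹) = g * (r * (y : L) ^ j) * g⁻¹ := by group
          _ = g * ((y : L) ^ j * r) * g⁻¹ := by rw [h8]
          _ = _ := by group
      · exact (inferInstance : π.ker.Normal).conj_mem r (hRN hr) g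
    have h7 := Subgroup.card_dvd_of_le h6
    rwa [Subgroup.card_map_of_injective (MulAut.conj g).injective, hRc] at h7
  have hdvd : Nat.card π.ker ∣ Nat.card ((centralizer ({x} : Set L)) ⊓ π.ker : Subgroup L) := by
    rw [← Nat.factorization_le_iff_dvd Nat.card_pos.ne' Nat.card_pos.ne']
    intro t
    by_cases ht : t.Prime
    · exact (ht.pow_dvd_iff_le_factorization Nat.card_pos.ne').mp (hfull t ht)
    · rw [Nat.factorization_eq_zero_of_not_prime _ ht]
      exact Nat.zero_le _
  have heq : (centralizer ({x} : Set L)) ⊓ π.ker = π.ker :=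
    Subgroup.eq_of_le_of_card_ge inf_le_right (Nat.le_of_dvd Nat.card_pos hdvd)
  intro y hy
  rw [← heq] at hy
  exact (mem_centralizer_singleton_iff.mp (mem_inf.mp hy).1).symm

end Cfsg.Agent.H427.Cs
end

-- part: H427/CsIndex
section
/-!
# The index of the normal subgroup of elements with large centralizer (helper427)
-/

set_option autoImplicit false

namespace Cfsg.Agent.H427.Cs

open Subgroup

section small

variable {B : Type*} [Group B] [Finite B]

/-- `s` divides `|B|` exactly once and every centralizer: the Sylow `s`-subgroup is central. -/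
theorem sylow_central {s : ℕ} (hs : s.Prime) (h1 : s ∣ Nat.card B) (h2 : ¬ s ^ 2 ∣ Nat.card B)
    (h : ∀ b : B, s ∣ Nat.card (centralizer ({b} : Set B))) (P : Sylow s B) :
    Nat.card P = s ∧ centralizer ((P : Subgroup B) : Set B) = ⊤ := by
  have : Fact s.Prime := ⟨hs⟩
  have hf : (Nat.card B).factorization s = 1 := by
    have h3 : 1 ≤ (Nat.card B).factorization s := (hs.dvd_iff_one_le_factorization Nat.card_pos.ne').mp h1
    have h4 : ¬ 2 ≤ (Nat.card B).factorization s := fun h5 =>
      h2 ((hs.pow_dvd_iff_le_factorization Nat.card_pos.ne').mpr h5)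
    omega
  have hcard : ∀ Q : Sylow s B, Nat.card Q = s := by
    intro Q
    rw [Q.card_eq_multiplicity, hf, pow_one]
  refine ⟨hcard P, ?_⟩
  apply eq_top_of_cover
  intro b
  obtain ⟨z, hz⟩ := exists_prime_orderOf_dvd_card' s (h b)
  have hzo : orderOf (z : B) = s := by rw [← hz]; exact Subgroup.orderOf_coe z
  have hzp : IsPGroup s (zpowers (z : B)) := by
    apply IsPGroup.of_card (n := 1)
    rw [Nat.card_zpowers, hzo, pow_one]
  obtain ⟨Q, hQ⟩ := hzp.exists_le_sylow
  have hQe : zpowers (z : B) = Q := by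
    apply Subgroup.eq_of_le_of_card_ge hQ
    rw [Nat.card_zpowers, hzo]
    exact (hcard Q).le
  obtain ⟨g, hg⟩ := MulAction.exists_smul_eq B P Q
  refine ⟨g, ?_⟩
  rw [mem_centralizer_iff]
  intro y hy
  have h3 : g * y * g⁻¹ ∈ (Q : Subgroup B) := by
    rw [← hg]
    exact ⟨y, hy, rfl⟩
  rw [← hQe] at h3
  have hzc : (z : B) * b = b * z := (mem_centralizer_singleton_iff.mp z.2)
  have h4 : zpowers (z : B) ≤ centralizer ({b} : Set B) := by
    rw [zpowers_le, mem_centralizer_singleton_iff]
    exact hzc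
  have h5 := mem_centralizer_singleton_iff.mp (h4 h3)
  have h6 : g⁻¹ * (g * y * g⁻¹ * b) * g = g⁻¹ * (b * (g * y * g⁻¹)) * g := by rw [h5]
  simpa only [mul_assoc, _root_.inv_mul_cancel_left, _root_.inv_mul_cancel, _root_.mul_one] using h6

end small

variable {C : Type*} [Group C] [Finite C]

theorem index_dvd {A b s : ℕ} (hd : ∀ c : C, Nat.card (centralizer ({c} : Set C)) ∣ A ∨ b ∣ Nat.card (centralizer ({c} : Set C)))
    (B : Subgroup C) (hB : B.Normal) (hBm : ∀ c : C, c ∈ B ↔ b ∣ Nat.card (centralizer ({c} : Set C)))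
    (hb : b ∣ Nat.card C) (hs : s.Prime) (hsb : s ∣ b) (hsA : ¬ s ∣ A) (hs2 : ¬ s ^ 2 ∣ Nat.card C) :
    B.index ∣ s - 1 := by
  have : Fact s.Prime := ⟨hs⟩
  have hmem : ∀ c : C, s ∣ Nat.card (centralizer ({c} : Set C)) → c ∈ B := by
    intro c hc
    rw [hBm]
    rcases hd c with h | h
    · exact absurd (hc.trans h) hsA
    · exact h
  -- elements of order `s` are in `B`
  have hself : ∀ y : C, orderOf y = s → y ∈ B := by
    intro y hy
    apply hmem
    have h1 : zpowers y ≤ centralizer ({y} : Set C) := by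
      rw [zpowers_le, mem_centralizer_singleton_iff]
    have h2 := Subgroup.card_dvd_of_le h1
    rwa [Nat.card_zpowers, hy] at h2
  -- centralizers in `B`
  have hcB : ∀ c : B, s ∣ Nat.card (centralizer ({c} : Set B)) := by
    intro c
    have h1 : s ∣ Nat.card (centralizer ({(c : C)} : Set C)) := hsb.trans ((hBm c).mp c.2)
    obtain ⟨z, hz⟩ := exists_prime_orderOf_dvd_card' s h1
    have hzo : orderOf (z : C) = s := by rw [← hz]; exact Subgroup.orderOf_coe z
    have hzB : (z : C) ∈ B := hself _ hzo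
    have hzc : (z : C) * c = c * z := mem_centralizer_singleton_iff.mp z.2
    have h2 : zpowers (⟨z, hzB⟩ : B) ≤ centralizer ({c} : Set B) := by
      rw [zpowers_le, mem_centralizer_singleton_iff]
      exact Subtype.ext hzc
    have h3 := Subgroup.card_dvd_of_le h2
    rw [Nat.card_zpowers, ← Subgroup.orderOf_coe] at h3
    change orderOf (z : C) ∣ _ at h3
    rwa [hzo] at h3
  have hcard1 : s ∣ Nat.card B := (hcB 1).trans (Subgroup.card_subgroup_dvd_card _)
  have hcard2 : ¬ s ^ 2 ∣ Nat.card B := fun h => hs2 (h.trans (Subgroup.card_subgroup_dvd_card _))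
  obtain P : Sylow s B := default
  obtain ⟨hPs, hPc⟩ := sylow_central hs hcard1 hcard2 hcB P
  have hPn : (P : Subgroup B).Normal := by
    constructor
    intro x hx g
    have h1 : g ∈ centralizer ((P : Subgroup B) : Set B) := by rw [hPc]; exact mem_top g
    have h2 := mem_centralizer_iff.mp h1 x hx
    rw [← h2, mul_inv_cancel_right]
    exact hx
  have hPch : (P : Subgroup B).Characteristic := Sylow.characteristic_of_normal P hPn
  have hSn : ((P : Subgroup B).map B.subtype).Normal := inferInstance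
  have hScard : Nat.card ((P : Subgroup B).map B.subtype) = s := by
    rw [Nat.card_congr ((P : Subgroup B).equivMapOfInjective B.subtype B.subtype_injective).symm.toEquiv]
    exact hPs
  have hScyc : IsCyclic ((P : Subgroup B).map B.subtype) := isCyclic_of_prime_card hScard
  -- `B` is the kernel of the conjugation action on `S`
  have hker : (MulAut.conjNormal (H := (P : Subgroup B).map B.subtype)).ker = B := by
    ext c
    rw [MonoidHom.mem_ker]
    constructor
    · intro hc
      apply hmem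
      have h1 : (P : Subgroup B).map B.subtype ≤ centralizer ({c} : Set C) := by
        intro y hy
        rw [mem_centralizer_singleton_iff]
        have h2 : (MulAut.conjNormal (H := (P : Subgroup B).map B.subtype) c ⟨y, hy⟩ : C) = y := by
          rw [hc]; rfl
        rw [MulAut.conjNormal_apply] at h2
        change c * y * c⁻¹ = y at h2
        rw [mul_inv_eq_iff_eq_mul] at h2
        exact h2.symm
      have h2 := Subgroup.card_dvd_of_le h1
      rwa [hScard] at h2
    · intro hc
      apply MulEquiv.ext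
      intro y
      apply Subtype.ext
      rw [MulAut.conjNormal_apply]
      obtain ⟨z, hz, hzy⟩ := y.2
      have h1 : (⟨c, hc⟩ : B) ∈ centralizer ((P : Subgroup B) : Set B) := by rw [hPc]; exact mem_top _
      have h2 := mem_centralizer_iff.mp h1 z hz
      have h3 : (z : C) * c = c * z := congrArg Subtype.val h2
      change c * y * c⁻¹ = y
      rw [← hzy]
      change c * (z : C) * c⁻¹ = z
      rw [← h3, mul_inv_cancel_right]
  have h0 := congrArg Subgroup.index hker
  rw [Subgroup.index_ker] at h0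
  have h1 : B.index ∣ Nat.card (MulAut ((P : Subgroup B).map B.subtype)) :=
    h0 ▸ Subgroup.card_subgroup_dvd_card _
  rw [IsCyclic.card_mulAut, hScard, Nat.totient_prime hs] at h1
  exact h1

/-- in a `q`-group of order at least `q²` every centralizer has order divisible by `q²` -/
theorem sq_dvd_centralizer {Q : Type*} [Group Q] [Finite Q] {q : ℕ} (hq : q.Prime) (hQ : IsPGroup q Q)
    (h2 : q ^ 2 ∣ Nat.card Q) (h : Q) : q ^ 2 ∣ Nat.card (centralizer ({h} : Set Q)) := by
  have : Fact q.Prime := ⟨hq⟩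
  obtain ⟨n, hn⟩ := (IsPGroup.iff_card.mp (hQ.to_subgroup (centralizer ({h} : Set Q))))
  rw [hn]
  apply pow_dvd_pow
  by_contra hlt
  have hn1 : n ≤ 1 := by omega
  have hle : Nat.card (centralizer ({h} : Set Q)) ≤ q := by
    rw [hn]
    calc q ^ n ≤ q ^ 1 := Nat.pow_le_pow_right hq.pos hn1
      _ = q := pow_one q
  have hcle : center Q ≤ centralizer ({h} : Set Q) := by
    intro x hx
    rw [mem_centralizer_singleton_iff]
    exact ((mem_center_iff.mp hx) h).symm
  have hnt : Nontrivial Q := by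
    rw [← Finite.one_lt_card_iff_nontrivial]
    exact lt_of_lt_of_le (Nat.one_lt_pow two_ne_zero hq.one_lt) (Nat.le_of_dvd Nat.card_pos h2)
  have hZ : Nontrivial (center Q) := hQ.center_nontrivial
  have hZq : q ≤ Nat.card (center Q) := by
    obtain ⟨m, hm⟩ := (IsPGroup.iff_card.mp (hQ.to_subgroup (center Q)))
    have h3 := Finite.one_lt_card_iff_nontrivial.mpr hZ
    rw [hm] at h3 ⊢
    have hm0 : m ≠ 0 := by
      rintro rfl
      simp at h3
    calc q = q ^ 1 := (pow_one q).symm
      _ ≤ q ^ m := Nat.pow_le_pow_right hq.pos (Nat.one_le_iff_ne_zero.mpr hm0)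
  have heq : center Q = centralizer ({h} : Set Q) :=
    Subgroup.eq_of_le_of_card_ge hcle (hle.trans hZq)
  have hh : h ∈ center Q := by
    rw [heq, mem_centralizer_singleton_iff]
  have htop : centralizer ({h} : Set Q) = ⊤ := by
    rw [eq_top_iff]
    intro x _
    rw [mem_centralizer_singleton_iff]
    exact (mem_center_iff.mp hh) x
  rw [htop, Subgroup.card_top] at hle
  have h3 : q ^ 2 ≤ q := (Nat.le_of_dvd Nat.card_pos h2).trans hle
  have h4 : q < q ^ 2 := by
    rw [pow_two]
    exact lt_mul_of_one_lt_left hq.pos hq.one_lt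
  omega

theorem sq_dvd {A b q : ℕ} (hd : ∀ c : C, Nat.card (centralizer ({c} : Set C)) ∣ A ∨ b ∣ Nat.card (centralizer ({c} : Set C)))
    (B : Subgroup C) (hBm : ∀ c : C, c ∈ B ↔ b ∣ Nat.card (centralizer ({c} : Set C)))
    (hq : q.Prime) (hqB : q ∣ B.index) (hq2 : q ^ 2 ∣ Nat.card C) : q ^ 2 ∣ A := by
  have : Fact q.Prime := ⟨hq⟩
  obtain Q : Sylow q C := default
  have hQB : ¬ (Q : Subgroup C) ≤ B := fun h => Q.not_dvd_index (hqB.trans (Subgroup.index_dvd_of_le h))
  obtain ⟨h, hhQ, hhB⟩ := SetLike.not_le_iff_exists.mp hQB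
  have hQ2 : q ^ 2 ∣ Nat.card Q := by
    rw [Q.card_eq_multiplicity]
    exact pow_dvd_pow q ((hq.pow_dvd_iff_le_factorization Nat.card_pos.ne').mp hq2)
  have h1 := sq_dvd_centralizer hq Q.isPGroup' hQ2 ⟨h, hhQ⟩
  have h2 : Nat.card (centralizer ({(⟨h, hhQ⟩ : Q)} : Set Q)) ∣ Nat.card (centralizer ({h} : Set C)) := by
    have h3 : (centralizer ({(⟨h, hhQ⟩ : Q)} : Set Q)).map (Q : Subgroup C).subtype ≤ centralizer ({h} : Set C) := by
      rintro x ⟨y, hy, rfl⟩
      rw [mem_centralizer_singleton_iff]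
      exact congrArg Subtype.val (mem_centralizer_singleton_iff.mp hy)
    have h4 := Subgroup.card_dvd_of_le h3
    rwa [Nat.card_congr ((centralizer ({(⟨h, hhQ⟩ : Q)} : Set Q)).equivMapOfInjective (Q : Subgroup C).subtype
      (Q : Subgroup C).subtype_injective).symm.toEquiv] at h4
  rcases hd h with h5 | h5
  · exact (h1.trans h2).trans h5
  · exact absurd ((hBm h).mpr h5) hhB

end Cfsg.Agent.H427.Cs
end

-- part: H427/CsTwo
section
/-!
# Elements of prime order with large centralizer (helper427)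

`r` divides `|G|` exactly once, every centralizer order divisible by `r` divides `r a` or is divisible by `b`,
`|G| r a < b²`, and an element of order `r` has centralizer order divisible by `b`.  Then for every `g` with
`|C(g)|` divisible by `r` and dividing `r a` there is a prime `q` dividing `|C(g)|` and dividing `s - 1` for every
prime `s` dividing `b` and `|G|` exactly once and not dividing `r a`.
-/

set_option autoImplicit false

namespace Cfsg.Agent.H427.Cs

open Subgroup

variable {G : Type*} [Group G] [Finite G]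

omit [Finite G] in
theorem commute_of_pow {y c : G} {m n : ℕ} (h : Nat.Coprime m n) (h1 : Commute y (c ^ m)) (h2 : Commute y (c ^ n)) :
    Commute y c := by
  have h3 : c = (c ^ m) ^ (Nat.gcdA m n) * (c ^ n) ^ (Nat.gcdB m n) := by
    rw [← zpow_natCast, ← zpow_natCast, ← zpow_mul, ← zpow_mul, ← zpow_add, ← Nat.gcd_eq_gcd_ab, h.gcd_eq_one,
      Nat.cast_one, zpow_one]
  rw [h3]
  exact (h1.zpow_right _).mul_right (h2.zpow_right _)

/-- two elements of order `r` generate conjugate subgroups -/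
theorem exists_conj_mem_zpowers {r : ℕ} (hr : r.Prime) (hr2 : ¬ r ^ 2 ∣ Nat.card G) {x z : G} (hx : orderOf x = r)
    (hz : orderOf z = r) : ∃ t : G, x ∈ zpowers (t * z * t⁻¹) := by
  have : Fact r.Prime := ⟨hr⟩
  have hf : (Nat.card G).factorization r = 1 := by
    have h1 : r ∣ Nat.card G := hx ▸ _root_.orderOf_dvd_natCard x
    have h3 : 1 ≤ (Nat.card G).factorization r := (hr.dvd_iff_one_le_factorization Nat.card_pos.ne').mp h1
    have h4 : ¬ 2 ≤ (Nat.card G).factorization r := fun h5 =>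
      hr2 ((hr.pow_dvd_iff_le_factorization Nat.card_pos.ne').mpr h5)
    omega
  have key : ∀ y : G, orderOf y = r → ∃ Q : Sylow r G, zpowers y = Q := by
    intro y hy
    have hp : IsPGroup r (zpowers y) := by
      apply IsPGroup.of_card (n := 1)
      rw [Nat.card_zpowers, hy, pow_one]
    obtain ⟨Q, hQ⟩ := hp.exists_le_sylow
    refine ⟨Q, Subgroup.eq_of_le_of_card_ge hQ ?_⟩
    rw [Nat.card_zpowers, hy]
    change Nat.card Q ≤ r
    rw [Q.card_eq_multiplicity, hf, pow_one]
  obtain ⟨Q, hQ⟩ := key z hz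
  obtain ⟨R, hR⟩ := key x hx
  obtain ⟨t, ht⟩ := MulAction.exists_smul_eq G Q R
  refine ⟨t, ?_⟩
  have h1 : x ∈ (R : Subgroup G) := by rw [← hR]; exact mem_zpowers x
  rw [← ht] at h1
  obtain ⟨y, hy, hyx⟩ := h1
  have h2 : y ∈ zpowers z := by rw [hQ]; exact hy
  obtain ⟨k, rfl⟩ := mem_zpowers_iff.mp h2
  rw [mem_zpowers_iff]
  refine ⟨k, ?_⟩
  rw [conj_zpow]
  exact hyx

/-- the centralizer in `C(x)` of an element of `C(x)` is the centralizer of an element of `G` -/
theorem exists_centralizer {r : ℕ} (hr : r.Prime) (hr2 : ¬ r ^ 2 ∣ Nat.card G) {x : G} (hx : orderOf x = r)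
    (c : centralizer ({x} : Set G)) : ∃ h : G, r ∣ Nat.card (centralizer ({h} : Set G)) ∧
      Nat.card (centralizer ({c} : Set (centralizer ({x} : Set G)))) = Nat.card (centralizer ({h} : Set G)) := by
  have hcx : Commute (c : G) x := mem_centralizer_singleton_iff.mp c.2
  -- the order of `c ^ r` is prime to `r`
  have ho2 : ¬ r ^ 2 ∣ orderOf (c : G) := fun h => hr2 (h.trans (_root_.orderOf_dvd_natCard _))
  obtain ⟨m, hm⟩ : ∃ m, m = orderOf ((c : G) ^ r) := ⟨_, rfl⟩
  have hmr : Nat.Coprime r m := by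
    rw [hr.coprime_iff_not_dvd, hm]
    intro h
    apply ho2
    rw [orderOf_pow' _ hr.ne_zero] at h
    have h1 : Nat.gcd (orderOf (c : G)) r ∣ orderOf (c : G) := Nat.gcd_dvd_left _ _
    have h2 : r ∣ orderOf (c : G) := h.trans (Nat.div_dvd_of_dvd h1)
    rw [Nat.gcd_eq_right h2] at h
    obtain ⟨k, hk⟩ := h2
    rw [hk, Nat.mul_div_cancel_left _ hr.pos] at h
    rw [hk, pow_two]
    exact Nat.mul_dvd_mul_left r h
  -- `c ^ m` is a power of `x`
  have hcm : (c : G) ^ m ∈ zpowers x := by
    have h1 : ((c : G) ^ m) ^ r = 1 := by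
      rw [← pow_mul, mul_comm, pow_mul, hm, pow_orderOf_eq_one]
    have : Fact r.Prime := ⟨hr⟩
    by_cases h2 : (c : G) ^ m = 1
    · rw [h2]; exact one_mem _
    have ho : orderOf ((c : G) ^ m) = r := orderOf_eq_prime h1 h2
    have hxx : x ∈ centralizer ({x} : Set G) := mem_centralizer_singleton_iff.mpr rfl
    have hr2' : ¬ r ^ 2 ∣ Nat.card (centralizer ({x} : Set G)) := fun h =>
      hr2 (h.trans (Subgroup.card_subgroup_dvd_card _))
    have e1 : orderOf (⟨x, hxx⟩ : centralizer ({x} : Set G)) = r := by rw [Subgroup.orderOf_mk, hx]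
    have e2 : orderOf (c ^ m) = r := by
      rw [← Subgroup.orderOf_coe]
      exact ho
    obtain ⟨t, ht⟩ := exists_conj_mem_zpowers hr hr2' e1 e2
    have h3 : (⟨x, hxx⟩ : centralizer ({x} : Set G)) ∈ zpowers (c ^ m) := by
      obtain ⟨k, hk⟩ := mem_zpowers_iff.mp ht
      rw [conj_zpow] at hk
      refine mem_zpowers_iff.mpr ⟨k, ?_⟩
      have h4 : t * ⟨x, hxx⟩ = ⟨x, hxx⟩ * t := Subtype.ext (mem_centralizer_singleton_iff.mp t.2)
      calc (c ^ m) ^ k = t⁻¹ * (t * (c ^ m) ^ k * t⁻¹) * t := by group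
        _ = t⁻¹ * ⟨x, hxx⟩ * t := by rw [hk]
        _ = t⁻¹ * (t * ⟨x, hxx⟩) := by rw [mul_assoc, ← h4]
        _ = ⟨x, hxx⟩ := by group
    have h5 : zpowers (⟨x, hxx⟩ : centralizer ({x} : Set G)) = zpowers (c ^ m) := by
      apply Subgroup.eq_of_le_of_card_ge (by rwa [zpowers_le])
      rw [Nat.card_zpowers, Nat.card_zpowers, e1, e2]
    have h6 : c ^ m ∈ zpowers (⟨x, hxx⟩ : centralizer ({x} : Set G)) := by rw [h5]; exact mem_zpowers _
    obtain ⟨k, hk⟩ := mem_zpowers_iff.mp h6
    refine mem_zpowers_iff.mpr ⟨k, ?_⟩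
    have h7 := congrArg Subtype.val hk
    simpa using h7
  have hkey : ∀ y : G, Commute y (x * (c : G) ^ r) → Commute y x ∧ Commute y (c : G) := by
    intro y hy
    have h1 : Commute y (x ^ m) := by
      have h2 := hy.pow_right m
      rw [((hcx.symm).pow_right r).mul_pow, hm, pow_orderOf_eq_one, mul_one] at h2
      rw [hm]
      exact h2
    have h3 : Commute y (x ^ r) := by
      rw [← hx, pow_orderOf_eq_one]
      exact Commute.one_right y
    have h4 : Commute y x := commute_of_pow hmr h3 h1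
    have h5 : Commute y ((c : G) ^ r) := by
      have h6 : (c : G) ^ r = x⁻¹ * (x * (c : G) ^ r) := by group
      rw [h6]
      exact (h4.inv_right).mul_right hy
    have h7 : Commute y ((c : G) ^ m) := by
      obtain ⟨k, hk⟩ := mem_zpowers_iff.mp hcm
      rw [← hk]
      exact h4.zpow_right k
    exact ⟨h4, commute_of_pow hmr h5 h7⟩
  refine ⟨x * (c : G) ^ r, ?_, ?_⟩
  · have h1 : zpowers x ≤ centralizer ({x * (c : G) ^ r} : Set G) := by
      rw [zpowers_le, mem_centralizer_singleton_iff]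
      have := (hcx.pow_left r).eq
      rw [mul_assoc, this]
    have h2 := Subgroup.card_dvd_of_le h1
    rwa [Nat.card_zpowers, hx] at h2
  · apply Nat.card_congr
    refine ⟨fun y => ⟨(y : centralizer ({x} : Set G)), ?_⟩, fun y => ⟨⟨y, ?_⟩, ?_⟩, ?_, ?_⟩
    · rw [mem_centralizer_singleton_iff]
      have h1 : Commute ((y : centralizer ({x} : Set G)) : G) x := mem_centralizer_singleton_iff.mp y.1.2
      have h2 : Commute ((y : centralizer ({x} : Set G)) : G) (c : G) :=
        congrArg Subtype.val (mem_centralizer_singleton_iff.mp y.2)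
      exact (h1.mul_right (h2.pow_right r)).eq
    · exact mem_centralizer_singleton_iff.mpr (hkey y (mem_centralizer_singleton_iff.mp y.2)).1.eq
    · exact mem_centralizer_singleton_iff.mpr (Subtype.ext (hkey y (mem_centralizer_singleton_iff.mp y.2)).2.eq)
    · intro y
      rfl
    · intro y
      rfl

/-- **The dichotomy.** -/
theorem exists_prime_of_large {r a b : ℕ} (hr : r.Prime) (hr2 : ¬ r ^ 2 ∣ Nat.card G) (ha : 0 < a)
    (hd : ∀ g : G, r ∣ Nat.card (centralizer ({g} : Set G)) →
      Nat.card (centralizer ({g} : Set G)) ∣ r * a ∨ b ∣ Nat.card (centralizer ({g} : Set G)))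
    (hsize : Nat.card G * (r * a) < b ^ 2) {x : G} (hx : orderOf x = r)
    (hxb : b ∣ Nat.card (centralizer ({x} : Set G))) {g : G} (hg : r ∣ Nat.card (centralizer ({g} : Set G)))
    (hga : Nat.card (centralizer ({g} : Set G)) ∣ r * a) :
    ∃ q : ℕ, q.Prime ∧ q ∣ Nat.card (centralizer ({g} : Set G)) ∧ (q ^ 2 ∣ b → q ^ 2 ∣ r * a) ∧
      ∀ s : ℕ, s.Prime → s ∣ b → ¬ s ∣ r * a → ¬ s ^ 2 ∣ Nat.card G → q ∣ s - 1 := by
  have hA : 0 < r * a := Nat.mul_pos hr.pos ha
  have hdC : ∀ c : centralizer ({x} : Set G),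
      Nat.card (centralizer ({c} : Set (centralizer ({x} : Set G)))) ∣ r * a ∨
      b ∣ Nat.card (centralizer ({c} : Set (centralizer ({x} : Set G)))) := by
    intro c
    obtain ⟨h, h1, h2⟩ := exists_centralizer hr hr2 hx c
    rw [h2]
    exact hd h h1
  have hCG : Nat.card (centralizer ({x} : Set G)) ≤ Nat.card G := Subgroup.card_le_card_group _
  have hsizeC : Nat.card (centralizer ({x} : Set G)) * (r * a) < b ^ 2 :=
    lt_of_le_of_lt (Nat.mul_le_mul_right _ hCG) hsize
  have hbra : ¬ b ∣ r * a := by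
    intro h
    have h1 : b ≤ r * a := Nat.le_of_dvd hA h
    have h2 : b ≤ Nat.card (centralizer ({x} : Set G)) := Nat.le_of_dvd Nat.card_pos hxb
    have h3 : b ^ 2 ≤ Nat.card (centralizer ({x} : Set G)) * (r * a) := by
      rw [pow_two]
      exact Nat.mul_le_mul h2 h1
    omega
  obtain ⟨B, hBn, hBm⟩ := exists_normal hA hdC hxb hsizeC
  -- conjugate `g` into `C(x)`
  have : Fact r.Prime := ⟨hr⟩
  obtain ⟨z, hz⟩ := exists_prime_orderOf_dvd_card' r hg
  have hzo : orderOf (z : G) = r := by rw [← hz]; exact Subgroup.orderOf_coe z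
  obtain ⟨t, ht⟩ := exists_conj_mem_zpowers hr hr2 hx hzo
  have hzg : Commute (z : G) g := mem_centralizer_singleton_iff.mp z.2
  have hc1 : Commute (t * z * t⁻¹) (t * g * t⁻¹) := by
    change t * z * t⁻¹ * (t * g * t⁻¹) = t * g * t⁻¹ * (t * z * t⁻¹)
    have := hzg.eq
    calc t * z * t⁻¹ * (t * g * t⁻¹) = t * (z * g) * t⁻¹ := by group
      _ = t * (g * z) * t⁻¹ := by rw [this]
      _ = _ := by group
  have hc2 : Commute (t * g * t⁻¹) x := by
    obtain ⟨k, hk⟩ := mem_zpowers_iff.mp ht
    rw [← hk]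
    exact (hc1.symm).zpow_right k
  have hgC : t * g * t⁻¹ ∈ centralizer ({x} : Set G) := mem_centralizer_singleton_iff.mpr hc2.eq
  obtain ⟨c, hc⟩ : ∃ c : centralizer ({x} : Set G), c = ⟨t * g * t⁻¹, hgC⟩ := ⟨_, rfl⟩
  have hcc : Nat.card (centralizer ({c} : Set (centralizer ({x} : Set G)))) ∣
      Nat.card (centralizer ({g} : Set G)) := by
    rw [← card_centralizer_conj g t]
    have h3 : (centralizer ({c} : Set (centralizer ({x} : Set G)))).map (centralizer ({x} : Set G)).subtype ≤
        centralizer ({t * g * t⁻¹} : Set G) := by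
      rintro _ ⟨y, hy, rfl⟩
      rw [mem_centralizer_singleton_iff]
      have h4 := congrArg Subtype.val (mem_centralizer_singleton_iff.mp hy)
      rw [hc] at h4
      exact h4
    have h4 := Subgroup.card_dvd_of_le h3
    rwa [Nat.card_congr ((centralizer ({c} : Set (centralizer ({x} : Set G)))).equivMapOfInjective
      (centralizer ({x} : Set G)).subtype (centralizer ({x} : Set G)).subtype_injective).symm.toEquiv] at h4
  have hcB : c ∉ B := fun h => hbra (((hBm c).mp h).trans (hcc.trans hga))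
  have hq1 : orderOf (QuotientGroup.mk' B c) ≠ 1 := by
    intro h
    rw [orderOf_eq_one_iff] at h
    exact hcB ((QuotientGroup.eq_one_iff c).mp h)
  obtain ⟨q, hq, hqd⟩ := Nat.exists_prime_and_dvd hq1
  have hqB : q ∣ B.index := by
    rw [Subgroup.index_eq_card]
    exact hqd.trans (_root_.orderOf_dvd_natCard _)
  have hqc : q ∣ Nat.card (centralizer ({g} : Set G)) := by
    have h1 : q ∣ orderOf c := hqd.trans (orderOf_map_dvd _ c)
    have h2 : orderOf c ∣ Nat.card (centralizer ({c} : Set (centralizer ({x} : Set G)))) := by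
      have h3 : zpowers c ≤ centralizer ({c} : Set (centralizer ({x} : Set G))) := by
        rw [zpowers_le, mem_centralizer_singleton_iff]
      have h4 := Subgroup.card_dvd_of_le h3
      rwa [Nat.card_zpowers] at h4
    exact (h1.trans h2).trans hcc
  refine ⟨q, hq, hqc, fun h => sq_dvd hdC B hBm hq hqB (h.trans hxb), fun s hs hsb hsa hs2 => ?_⟩
  exact hqB.trans (index_dvd hdC B hBn hBm hxb hs hsb hsa fun h => hs2 (h.trans (Subgroup.card_subgroup_dvd_card _)))

end Cfsg.Agent.H427.Cs
end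

-- part: H427/CsPerm
section
/-!
# Centralizer orders in symmetric and alternating groups divisible by a large prime (helper427)
-/

set_option autoImplicit false

namespace Cfsg.Agent.H427.Cs

open Subgroup Nat

theorem sum_cycleType_le {n : ℕ} (σ : Equiv.Perm (Fin n)) : σ.cycleType.sum ≤ n := by
  rw [Equiv.Perm.sum_cycleType]
  exact (Finset.card_le_univ _).trans (by rw [Fintype.card_fin])

theorem mem_le_sum {m : Multiset ℕ} {i : ℕ} (h : i ∈ m) : i ≤ m.sum := by
  obtain ⟨t, rfl⟩ := Multiset.exists_cons_of_mem h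
  rw [Multiset.sum_cons]
  exact Nat.le_add_right _ _

theorem count_mul_le_sum (m : Multiset ℕ) (i : ℕ) : m.count i * i ≤ m.sum := by
  have h : Multiset.replicate (m.count i) i ≤ m := Multiset.le_count_iff_replicate_le.mp le_rfl
  obtain ⟨t, ht⟩ := Multiset.le_iff_exists_add.mp h
  conv_rhs => rw [ht]
  rw [Multiset.sum_add, Multiset.sum_replicate, smul_eq_mul]
  exact Nat.le_add_right _ _

/-- **Centralizers in the symmetric group of order divisible by a large prime.** -/
theorem perm_dich {n r : ℕ} (hr : r.Prime) (h2r : n < 2 * r) (σ : Equiv.Perm (Fin n))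
    (h : r ∣ Nat.card (centralizer ({σ} : Set (Equiv.Perm (Fin n))))) :
    Nat.card (centralizer ({σ} : Set (Equiv.Perm (Fin n)))) ∣ r * (n - r)! ∨
      r ! ∣ Nat.card (centralizer ({σ} : Set (Equiv.Perm (Fin n)))) := by
  rw [Equiv.Perm.nat_card_centralizer, Fintype.card_fin] at h ⊢
  have hsum := sum_cycleType_le σ
  have h2 : ∀ i ∈ σ.cycleType, 2 ≤ i := fun i hi => Equiv.Perm.two_le_of_mem_cycleType hi
  generalize σ.cycleType = m at h hsum h2 ⊢
  rcases hr.dvd_mul.mp h with h3 | h3
  · rcases hr.dvd_mul.mp h3 with h4 | h4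
    · right
      have h5 : r ≤ n - m.sum := hr.dvd_factorial.mp h4
      exact (Dvd.dvd.mul_right (Nat.factorial_dvd_factorial h5) _).mul_right _
    · left
      obtain ⟨i, hi, hri⟩ := hr.prime.exists_mem_multiset_dvd h4
      have hin : i ≤ n := (mem_le_sum hi).trans hsum
      have hir : i = r := by
        obtain ⟨k, rfl⟩ := hri
        have hk : k < 2 := by
          by_contra hcon
          have : r * 2 ≤ r * k := Nat.mul_le_mul_left r (by omega)
          omega
        have hk0 : k ≠ 0 := by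
          rintro rfl
          have := h2 _ hi
          omega
        have : k = 1 := by omega
        rw [this, mul_one]
      subst hir
      obtain ⟨t, rfl⟩ := Multiset.exists_cons_of_mem hi
      rw [Multiset.sum_cons] at hsum
      have ht : t.sum ≤ n - i := by omega
      have hit : i ∉ t := fun hit => by
        have := mem_le_sum hit
        omega
      obtain ⟨τ, hτ⟩ := (Equiv.Perm.exists_with_cycleType_iff (Fin (n - i)) (m := t)).mpr
        ⟨by rw [Fintype.card_fin]; exact ht, fun a ha => h2 a (Multiset.mem_cons_of_mem ha)⟩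
      have h5 : Nat.card (centralizer ({τ} : Set (Equiv.Perm (Fin (n - i))))) ∣ (n - i)! := by
        have := Subgroup.card_subgroup_dvd_card (centralizer ({τ} : Set (Equiv.Perm (Fin (n - i)))))
        rwa [Nat.card_eq_fintype_card (α := Equiv.Perm (Fin (n - i))), Fintype.card_perm, Fintype.card_fin] at this
      rw [Equiv.Perm.nat_card_centralizer, hτ, Fintype.card_fin] at h5
      rw [Multiset.sum_cons, Multiset.prod_cons, Multiset.toFinset_cons,
        Finset.prod_insert (by rwa [Multiset.mem_toFinset]), Multiset.count_cons_self,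
        Multiset.count_eq_zero_of_notMem hit, zero_add, Nat.factorial_one, one_mul]
      have h6 : ∏ x ∈ t.toFinset, (Multiset.count x (i ::ₘ t))! = ∏ x ∈ t.toFinset, (Multiset.count x t)! := by
        apply Finset.prod_congr rfl
        intro x hx
        rw [Multiset.count_cons_of_ne]
        rintro rfl
        exact hit (Multiset.mem_toFinset.mp hx)
      rw [h6, show n - (i + t.sum) = n - i - t.sum by omega]
      have h7 : (n - i - t.sum)! * (i * t.prod) * ∏ x ∈ t.toFinset, (Multiset.count x t)! =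
          i * ((n - i - t.sum)! * t.prod * ∏ x ∈ t.toFinset, (Multiset.count x t)!) := by ring
      rw [h7]
      exact Nat.mul_dvd_mul_left i h5
  · exfalso
    obtain ⟨i, hi, hri⟩ := (hr.prime.dvd_finsetProd_iff _).mp h3
    have h4 : r ≤ m.count i := hr.dvd_factorial.mp hri
    have h5 := count_mul_le_sum m i
    have h6 := h2 i (Multiset.mem_toFinset.mp hi)
    have h7 : r * 2 ≤ m.count i * i := Nat.mul_le_mul h4 h6
    omega

/-- the centralizer in the alternating group has index at most two -/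
theorem card_alt_centralizer {n : ℕ} (σ : alternatingGroup (Fin n)) :
    ∃ j, j ∣ 2 ∧ Nat.card (centralizer ({(σ : Equiv.Perm (Fin n))} : Set (Equiv.Perm (Fin n)))) =
      Nat.card (centralizer ({σ} : Set (alternatingGroup (Fin n)))) * j := by
  obtain ⟨C, hC⟩ : ∃ C, C = centralizer ({(σ : Equiv.Perm (Fin n))} : Set (Equiv.Perm (Fin n))) := ⟨_, rfl⟩
  refine ⟨(alternatingGroup (Fin n)).relIndex C, ?_, ?_⟩
  · apply (Subgroup.relIndex_dvd_index_of_normal _ _).trans
    rcases Nat.lt_or_ge n 2 with h | h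
    · have : Subsingleton (Fin n) := Fin.subsingleton_iff_le_one.2 (by omega)
      have h1 : alternatingGroup (Fin n) = ⊤ := Subsingleton.elim _ _
      rw [h1, Subgroup.index_top]
      exact one_dvd _
    · have : Nontrivial (Fin n) := Fin.nontrivial_iff_two_le.mpr h
      rw [alternatingGroup.index_eq_two]
  · rw [← hC]
    have h1 : Nat.card (centralizer ({σ} : Set (alternatingGroup (Fin n)))) =
        Nat.card ((alternatingGroup (Fin n)).subgroupOf C) := by
      apply Nat.card_congr
      refine ⟨fun x => ⟨⟨x, ?_⟩, ?_⟩, fun x => ⟨⟨x, ?_⟩, ?_⟩, ?_, ?_⟩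
      · rw [hC, mem_centralizer_singleton_iff]
        exact congrArg Subtype.val (mem_centralizer_singleton_iff.mp x.2)
      · rw [mem_subgroupOf]
        exact x.1.2
      · exact mem_subgroupOf.mp x.2
      · rw [mem_centralizer_singleton_iff]
        have h2 : ((x : C) : Equiv.Perm (Fin n)) ∈ centralizer ({(σ : Equiv.Perm (Fin n))} : Set (Equiv.Perm (Fin n))) :=
          hC ▸ x.1.2
        exact Subtype.ext (mem_centralizer_singleton_iff.mp h2)
      · intro x; rfl
      · intro x; rfl
    rw [h1]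
    exact ((alternatingGroup (Fin n)).subgroupOf C).card_mul_index.symm

theorem alt_dich {n r : ℕ} (hr : r.Prime) (h2r : n < 2 * r) (σ : alternatingGroup (Fin n))
    (h : r ∣ Nat.card (centralizer ({σ} : Set (alternatingGroup (Fin n))))) :
    Nat.card (centralizer ({σ} : Set (alternatingGroup (Fin n)))) ∣ r * (n - r)! ∨
      r ! / 2 ∣ Nat.card (centralizer ({σ} : Set (alternatingGroup (Fin n)))) := by
  obtain ⟨j, hj, hjc⟩ := card_alt_centralizer σ
  rcases perm_dich hr h2r (σ : Equiv.Perm (Fin n)) (hjc ▸ h.mul_right j) with h1 | h1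
  · left
    rw [hjc] at h1
    exact (Nat.dvd_mul_right _ _).trans h1
  · right
    rw [hjc] at h1
    have h2 : r ! ∣ Nat.card (centralizer ({σ} : Set (alternatingGroup (Fin n)))) * 2 :=
      h1.trans (Nat.mul_dvd_mul_left _ hj)
    have h3 : 2 ∣ r ! := Nat.dvd_factorial two_pos hr.two_le
    obtain ⟨k, hk⟩ := h3
    rw [hk, Nat.mul_div_cancel_left _ two_pos]
    rw [hk, mul_comm] at h2
    exact Nat.dvd_of_mul_dvd_mul_right two_pos h2

/-- elements with small centralizer -/
theorem perm_exists {n r : ℕ} (hr : Odd r) (hr3 : 3 ≤ r) (l : Finset ℕ) (hl : ∀ i ∈ l, Odd i ∧ 3 ≤ i) (hrl : r ∉ l)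
    (h1 : ∑ i ∈ l, i + r ≤ n) (h2 : n ≤ ∑ i ∈ l, i + r + 1) :
    ∃ σ : Equiv.Perm (Fin n), Nat.card (centralizer ({σ} : Set (Equiv.Perm (Fin n)))) = r * ∏ i ∈ l, i ∧
      centralizer ({σ} : Set (Equiv.Perm (Fin n))) ≤ alternatingGroup (Fin n) := by
  have hs : (insert r l).val.sum = ∑ i ∈ l, i + r := by
    have h0 : (insert r l).val.sum = ∑ i ∈ insert r l, i := by
      rw [Finset.sum_eq_multiset_sum, Multiset.map_id']
    rw [h0, Finset.sum_insert hrl, add_comm]
  have hp : (insert r l).val.prod = r * ∏ i ∈ l, i := by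
    have h0 : (insert r l).val.prod = ∏ i ∈ insert r l, i := by
      rw [Finset.prod_eq_multiset_prod, Multiset.map_id']
    rw [h0, Finset.prod_insert hrl]
  obtain ⟨σ, hσ⟩ := (Equiv.Perm.exists_with_cycleType_iff (Fin n) (m := (insert r l).val)).mpr
    ⟨by rw [Fintype.card_fin, hs]; exact h1, by
      intro a ha
      rw [Finset.mem_val, Finset.mem_insert] at ha
      rcases ha with rfl | ha
      · omega
      · have := (hl a ha).2; omega⟩
  have hcard : Nat.card (centralizer ({σ} : Set (Equiv.Perm (Fin n)))) = r * ∏ i ∈ l, i := by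
    rw [Equiv.Perm.nat_card_centralizer, hσ, Fintype.card_fin, hs, hp]
    have h3 : (n - (∑ i ∈ l, i + r))! = 1 := by
      rw [Nat.factorial_eq_one]
      omega
    have h4 : ∏ x ∈ (insert r l).val.toFinset, ((insert r l).val.count x)! = 1 := by
      apply Finset.prod_eq_one
      intro x _
      rw [Nat.factorial_eq_one]
      exact Multiset.nodup_iff_count_le_one.mp (insert r l).nodup x
    rw [h3, h4, one_mul, mul_one]
  refine ⟨σ, hcard, ?_⟩
  have hodd : Odd (Nat.card (centralizer ({σ} : Set (Equiv.Perm (Fin n))))) := by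
    rw [hcard]
    apply hr.mul
    clear hrl h1 h2 hs hp hσ hcard
    induction l using Finset.induction_on with
    | empty => simp
    | insert a s ha ih =>
      rw [Finset.prod_insert ha]
      exact (hl a (Finset.mem_insert_self a s)).1.mul (ih fun i hi => hl i (Finset.mem_insert_of_mem hi))
  intro g hg
  rw [Equiv.Perm.mem_alternatingGroup]
  have h3 : orderOf g ∣ Nat.card (centralizer ({σ} : Set (Equiv.Perm (Fin n)))) := by
    have h4 := _root_.orderOf_dvd_natCard (⟨g, hg⟩ : centralizer ({σ} : Set (Equiv.Perm (Fin n))))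
    rwa [Subgroup.orderOf_mk] at h4
  have h4 : Odd (orderOf g) := Odd.of_dvd_nat hodd h3
  have h5 : Equiv.Perm.sign g ^ orderOf g = 1 := by
    rw [← map_pow, pow_orderOf_eq_one, map_one]
  rcases Int.units_eq_one_or (Equiv.Perm.sign g) with h6 | h6
  · exact h6
  · rw [h6, h4.neg_one_pow] at h5
    exact absurd h5 (by decide)

theorem alt_exists {n r : ℕ} (hr : Odd r) (hr3 : 3 ≤ r) (l : Finset ℕ) (hl : ∀ i ∈ l, Odd i ∧ 3 ≤ i) (hrl : r ∉ l)
    (h1 : ∑ i ∈ l, i + r ≤ n) (h2 : n ≤ ∑ i ∈ l, i + r + 1) :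
    ∃ σ : alternatingGroup (Fin n), Nat.card (centralizer ({σ} : Set (alternatingGroup (Fin n)))) = r * ∏ i ∈ l, i := by
  obtain ⟨σ, hσ, hle⟩ := perm_exists hr hr3 l hl hrl h1 h2
  have hσA : σ ∈ alternatingGroup (Fin n) := hle (mem_centralizer_singleton_iff.mpr rfl)
  refine ⟨⟨σ, hσA⟩, ?_⟩
  rw [← hσ]
  apply Nat.card_congr
  refine ⟨fun x => ⟨x, ?_⟩, fun x => ⟨⟨x, hle x.2⟩, ?_⟩, ?_, ?_⟩
  · rw [mem_centralizer_singleton_iff]
    exact congrArg Subtype.val (mem_centralizer_singleton_iff.mp x.2)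
  · rw [mem_centralizer_singleton_iff]
    exact Subtype.ext (mem_centralizer_singleton_iff.mp x.2)
  · intro x; rfl
  · intro x; rfl

end Cfsg.Agent.H427.Cs
end

-- part: H427/CsHyp
section
/-!
# Groups with the order and the class sizes of a symmetric or alternating group (helper427)

`Hyp G n`: the facts used; `good_of_start`: centralizers of elements of large prime order are small.
-/

set_option autoImplicit false

namespace Cfsg.Agent.H427.Cs

open Subgroup Nat

/-- the order of the centralizer -/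
noncomputable abbrev cc {G : Type*} [Group G] (g : G) : ℕ := Nat.card (centralizer ({g} : Set G))

/-- what is used about a group with the order and the class sizes of `S_n` or `A_n` -/
structure Hyp (G : Type*) [Group G] (n : ℕ) : Prop where
  card : ∃ c, c ∣ 2 ∧ c * Nat.card G = n.factorial
  dich : ∀ r : ℕ, r.Prime → n < 2 * r → r ≤ n → ∀ g : G, r ∣ cc g → cc g ∣ r * (n - r)! ∨ r ! / 2 ∣ cc g
  exs : ∀ r : ℕ, r.Prime → Odd r → n < 2 * r → r ≤ n → ∀ l : Finset ℕ, (∀ i ∈ l, Odd i ∧ 3 ≤ i) → r ∉ l →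
    ∑ i ∈ l, i + r ≤ n → n ≤ ∑ i ∈ l, i + r + 1 → ∃ g : G, cc g = r * ∏ i ∈ l, i
  ex0 : ∀ r : ℕ, r.Prime → Odd r → n < 2 * r → r ≤ n → ∃ g : G, r ∣ cc g ∧ cc g ∣ r * (n - r)!

theorem cc_of_index {G H : Type*} [Group G] [Group H] [Finite G] [Finite H] (hc : Nat.card G = Nat.card H) {g : G} {h : H}
    (he : (centralizer ({g} : Set G)).index = (centralizer ({h} : Set H)).index) : cc g = cc h := by
  have h1 := (centralizer ({g} : Set G)).card_mul_index
  have h2 := (centralizer ({h} : Set H)).card_mul_index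
  rw [he, hc, ← h2] at h1
  exact Nat.eq_of_mul_eq_mul_right (Nat.pos_of_ne_zero (centralizer ({h} : Set H)).index_ne_zero_of_finite) h1

theorem exists_of_range {G H : Type*} [Group G] [Group H] [Finite G] [Finite H] (hc : Nat.card G = Nat.card H)
    (hr : Set.range (fun g : G => (centralizer ({g} : Set G)).index) =
      Set.range (fun g : H => (centralizer ({g} : Set H)).index)) (g : G) : ∃ h : H, cc g = cc h := by
  have h1 : (centralizer ({g} : Set G)).index ∈ Set.range (fun g : H => (centralizer ({g} : Set H)).index) := by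
    rw [← hr]
    exact ⟨g, rfl⟩
  obtain ⟨h, hh⟩ := h1
  exact ⟨h, cc_of_index hc hh.symm⟩

theorem ex0_perm {n r : ℕ} (hr : r.Prime) (hodd : Odd r) (hrn : r ≤ n) : ∃ σ : Equiv.Perm (Fin n),
    σ ∈ alternatingGroup (Fin n) ∧ orderOf σ = r ∧ cc σ = r * (n - r)! := by
  obtain ⟨σ, hσ⟩ := (Equiv.Perm.exists_with_cycleType_iff (Fin n) (m := {r})).mpr
    ⟨by rw [Fintype.card_fin, Multiset.sum_singleton]; exact hrn, by
      intro a ha
      rw [Multiset.mem_singleton] at ha
      subst ha
      exact hr.two_le⟩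
  have ho : orderOf σ = r := by
    rw [← Equiv.Perm.lcm_cycleType, hσ, Multiset.lcm_singleton]
    simp
  refine ⟨σ, ?_, ho, ?_⟩
  · rw [Equiv.Perm.mem_alternatingGroup]
    have h5 : Equiv.Perm.sign σ ^ orderOf σ = 1 := by
      rw [← map_pow, pow_orderOf_eq_one, map_one]
    rcases Int.units_eq_one_or (Equiv.Perm.sign σ) with h6 | h6
    · exact h6
    · rw [h6, ho, hodd.neg_one_pow] at h5
      exact absurd h5 (by decide)
  · unfold cc
    rw [Equiv.Perm.nat_card_centralizer, hσ, Fintype.card_fin, Multiset.sum_singleton, Multiset.prod_singleton,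
      Multiset.toFinset_singleton, Finset.prod_singleton, Multiset.count_singleton_self, Nat.factorial_one, mul_one,
      mul_comm]

theorem hyp_of_perm {G : Type*} [Group G] [Finite G] {n : ℕ} (hc : Nat.card G = Nat.card (Equiv.Perm (Fin n)))
    (hr : Set.range (fun g : G => (centralizer ({g} : Set G)).index) =
      Set.range (fun g : Equiv.Perm (Fin n) => (centralizer ({g} : Set (Equiv.Perm (Fin n)))).index)) : Hyp G n where
  card := ⟨1, one_dvd _, by rw [one_mul, hc, Nat.card_eq_fintype_card, Fintype.card_perm, Fintype.card_fin]⟩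
  dich := by
    intro r hr' h1 h2 g hg
    obtain ⟨σ, hσ⟩ := exists_of_range hc hr g
    rw [hσ] at hg ⊢
    rcases perm_dich hr' h1 σ hg with h | h
    · exact Or.inl h
    · exact Or.inr ((Nat.div_dvd_of_dvd (Nat.dvd_factorial two_pos hr'.two_le)).trans h)
  exs := by
    intro r hr' hodd h1 h2 l hl hrl h3 h4
    have : r ≠ 2 := by rintro rfl; exact absurd hodd (by decide)
    obtain ⟨σ, hσ, _⟩ := perm_exists hodd (by have := hr'.two_le; omega) l hl hrl h3 h4
    obtain ⟨g, hg⟩ := exists_of_range hc.symm hr.symm σ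
    exact ⟨g, by rw [← hg]; exact hσ⟩
  ex0 := by
    intro r hr' hodd h1 h2
    obtain ⟨σ, _, _, hσ⟩ := ex0_perm hr' hodd h2
    obtain ⟨g, hg⟩ := exists_of_range hc.symm hr.symm σ
    exact ⟨g, by rw [← hg, hσ]; exact Nat.dvd_mul_right _ _, by rw [← hg, hσ]⟩

theorem hyp_of_alt {G : Type*} [Group G] [Finite G] {n : ℕ} (hn : 2 ≤ n)
    (hc : Nat.card G = Nat.card (alternatingGroup (Fin n)))
    (hr : Set.range (fun g : G => (centralizer ({g} : Set G)).index) =
      Set.range (fun g : alternatingGroup (Fin n) => (centralizer ({g} : Set (alternatingGroup (Fin n)))).index)) :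
    Hyp G n where
  card := ⟨2, dvd_rfl, by rw [hc, Cfsg.Agent.H363.AltPrimes.card_alternating hn]⟩
  dich := by
    intro r hr' h1 h2 g hg
    obtain ⟨σ, hσ⟩ := exists_of_range hc hr g
    rw [hσ] at hg ⊢
    exact alt_dich hr' h1 σ hg
  exs := by
    intro r hr' hodd h1 h2 l hl hrl h3 h4
    have : r ≠ 2 := by rintro rfl; exact absurd hodd (by decide)
    obtain ⟨σ, hσ⟩ := alt_exists hodd (by have := hr'.two_le; omega) l hl hrl h3 h4
    obtain ⟨g, hg⟩ := exists_of_range hc.symm hr.symm σ
    exact ⟨g, by rw [← hg]; exact hσ⟩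
  ex0 := by
    intro r hr' hodd h1 h2
    obtain ⟨σ, hσA, ho, hσ⟩ := ex0_perm hr' hodd h2
    obtain ⟨g, hg⟩ := exists_of_range hc.symm hr.symm (⟨σ, hσA⟩ : alternatingGroup (Fin n))
    refine ⟨g, ?_, ?_⟩
    · rw [← hg]
      have h3 : zpowers (⟨σ, hσA⟩ : alternatingGroup (Fin n)) ≤
          centralizer ({(⟨σ, hσA⟩ : alternatingGroup (Fin n))} : Set (alternatingGroup (Fin n))) := by
        rw [zpowers_le, mem_centralizer_singleton_iff]
      have h4 := Subgroup.card_dvd_of_le h3
      rwa [Nat.card_zpowers, Subgroup.orderOf_mk, ho] at h4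
    · rw [← hg]
      obtain ⟨j, _, hj⟩ := card_alt_centralizer (⟨σ, hσA⟩ : alternatingGroup (Fin n))
      rw [← hσ]
      exact ⟨j, hj⟩

variable {G : Type*} [Group G] [Finite G] {n : ℕ}

omit [Finite G] in
theorem Hyp.card_dvd (h : Hyp G n) : Nat.card G ∣ n ! := by
  obtain ⟨c, _, hc⟩ := h.card
  exact ⟨c, by rw [← hc, mul_comm]⟩

omit [Finite G] in
theorem Hyp.sq_not_dvd (h : Hyp G n) {r : ℕ} (hr : r.Prime) (h1 : n < 2 * r) (h2 : r ≤ n) : ¬ r ^ 2 ∣ Nat.card G := by
  intro h3
  have h4 := h3.trans h.card_dvd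
  rw [hr.pow_dvd_iff_le_factorization n.factorial_ne_zero,
    Cfsg.Agent.H363.AltPrimes.factorization_factorial hr h2 h1] at h4
  omega

theorem dvd_cc_self (x : G) : orderOf x ∣ cc x := by
  have h3 : zpowers x ≤ centralizer ({x} : Set G) := by
    rw [zpowers_le, mem_centralizer_singleton_iff]
  have h4 := Subgroup.card_dvd_of_le h3
  rwa [Nat.card_zpowers] at h4

/-- **Elements of large prime order have small centralizers.** -/
theorem Hyp.good_of_start (h : Hyp G n) (hn : 5 ≤ n) {r₁ : ℕ} (hr₁ : r₁.Prime) (h1 : n < 2 * r₁) (h1n : r₁ ≤ n)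
    (hsize : 4 * (n ! * (r₁ * (n - r₁)!)) < (r₁ !) ^ 2) {g : G} (hg : r₁ ∣ cc g) (hgI : cc g ∣ r₁ * (n - r₁)!)
    (hq : ∀ q : ℕ, q.Prime → q ∣ cc g → (q ^ 2 ∣ r₁ ! / 2 → q ^ 2 ∣ r₁ * (n - r₁)!) →
      (∀ s : ℕ, s.Prime → n < 2 * s → s < r₁ → q ∣ s - 1) → False)
    {r₀ : ℕ} (hr₀ : r₀.Prime) (h01 : r₁ ≤ r₀) (h0n : r₀ ≤ n) (x : G) (hx : orderOf x = r₀) :
    cc x ∣ r₀ * (n - r₀)! := by
  have h2r : n < 2 * r₀ := by omega
  rcases h.dich r₀ hr₀ h2r h0n x (hx ▸ dvd_cc_self x) with hI | hII
  · exact hI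
  exfalso
  -- an element of order `r₁` with large centralizer
  have key : ∃ y : G, orderOf y = r₁ ∧ r₁ ! / 2 ∣ cc y := by
    rcases Nat.eq_or_lt_of_le h01 with h2 | h2
    · subst h2
      exact ⟨x, hx, hII⟩
    have hr₁2 : r₁ ≠ 2 := by omega
    have h3 : r₁ ∣ r₀ ! / 2 := by
      have h4 : r₁ ∣ r₀ ! := Nat.dvd_factorial hr₁.pos h2.le
      obtain ⟨k, hk⟩ : 2 ∣ r₀ ! := Nat.dvd_factorial two_pos hr₀.two_le
      rw [hk, Nat.mul_div_cancel_left _ two_pos]
      rw [hk] at h4
      exact (((Nat.coprime_primes hr₁ Nat.prime_two).mpr hr₁2).dvd_of_dvd_mul_left h4)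
    have : Fact r₁.Prime := ⟨hr₁⟩
    obtain ⟨y, hy⟩ := exists_prime_orderOf_dvd_card' r₁ (h3.trans hII)
    have hyo : orderOf (y : G) = r₁ := by rw [← hy]; exact Subgroup.orderOf_coe y
    refine ⟨y, hyo, ?_⟩
    have hxy : x ∈ centralizer ({(y : G)} : Set G) := by
      rw [mem_centralizer_singleton_iff]
      exact (mem_centralizer_singleton_iff.mp y.2).symm
    have h5 : r₀ ∣ cc (y : G) := by
      have h6 := _root_.orderOf_dvd_natCard (⟨x, hxy⟩ : centralizer ({(y : G)} : Set G))
      rwa [Subgroup.orderOf_mk, hx] at h6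
    rcases h.dich r₁ hr₁ h1 h1n y (hyo ▸ dvd_cc_self (y : G)) with h6 | h6
    · exfalso
      rcases hr₀.dvd_mul.mp (h5.trans h6) with h7 | h7
      · exact h2.ne ((Nat.prime_dvd_prime_iff_eq hr₀ hr₁).mp h7).symm
      · have := hr₀.dvd_factorial.mp h7
        omega
    · exact h6
  obtain ⟨y, hy, hyII⟩ := key
  have heven : 2 ∣ r₁ ! := Nat.dvd_factorial two_pos hr₁.two_le
  have hb : r₁ ! = 2 * (r₁ ! / 2) := (Nat.mul_div_cancel' heven).symm
  have hsz : Nat.card G * (r₁ * (n - r₁)!) < (r₁ ! / 2) ^ 2 := by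
    have h3 : Nat.card G ≤ n ! := Nat.le_of_dvd n.factorial_pos h.card_dvd
    have h4 : Nat.card G * (r₁ * (n - r₁)!) ≤ n ! * (r₁ * (n - r₁)!) := Nat.mul_le_mul_right _ h3
    have h5 : (r₁ !) ^ 2 = 4 * (r₁ ! / 2) ^ 2 := by
      conv_lhs => rw [hb]
      ring
    omega
  obtain ⟨q, hqp, hqg, hq2, hqs⟩ := exists_prime_of_large hr₁ (h.sq_not_dvd hr₁ h1 h1n) (Nat.factorial_pos (n - r₁))
    (fun g hg => h.dich r₁ hr₁ h1 h1n g hg) hsz hy hyII hg hgI
  refine hq q hqp hqg hq2 fun s hs hs1 hs2 => ?_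
  apply hqs s hs
  · have h4 : s ∣ r₁ ! := Nat.dvd_factorial hs.pos hs2.le
    rw [hb] at h4
    exact (((Nat.coprime_primes hs Nat.prime_two).mpr (by omega)).dvd_of_dvd_mul_left h4)
  · intro h4
    rcases hs.dvd_mul.mp h4 with h5 | h5
    · exact hs2.ne ((Nat.prime_dvd_prime_iff_eq hs hr₁).mp h5)
    · have := hs.dvd_factorial.mp h5
      omega
  · exact h.sq_not_dvd hs hs1 (by omega)

open Cfsg.Agent.H363.Frat in
/-- a small centralizer gives non-adjacency -/
theorem nonAdj_of_good {r₀ t : ℕ} (hr₀ : r₀.Prime) (ht : t.Prime) (hne : r₀ ≠ t) (h1 : n < r₀ + t)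
    (hg : ∀ x : G, orderOf x = r₀ → cc x ∣ r₀ * (n - r₀)!) : NonAdj G r₀ t := by
  intro g hgo
  have h2 : orderOf (g ^ t) = r₀ := by
    rw [orderOf_pow' g ht.ne_zero, hgo, Nat.gcd_eq_right (Dvd.intro_left r₀ rfl)]
    exact Nat.mul_div_cancel _ ht.pos
  have h3 := hg _ h2
  have h4 : t ∣ cc (g ^ t) := by
    have hgc : g ∈ centralizer ({g ^ t} : Set G) := by
      rw [mem_centralizer_singleton_iff]
      exact (Commute.refl g).pow_right t
    have h6 := _root_.orderOf_dvd_natCard (⟨g, hgc⟩ : centralizer ({g ^ t} : Set G))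
    rw [Subgroup.orderOf_mk, hgo] at h6
    exact (Dvd.intro_left r₀ rfl).trans h6
  rcases ht.dvd_mul.mp (h4.trans h3) with h5 | h5
  · exact hne ((Nat.prime_dvd_prime_iff_eq ht hr₀).mp h5).symm
  · have := ht.dvd_factorial.mp h5
    have := ht.two_le
    omega

end Cfsg.Agent.H427.Cs
end

-- part: H427/CsNum
section
/-!
# Arithmetic for large primes: size and coprime summands (helper427)
-/

set_option autoImplicit false

namespace Cfsg.Agent.H427.Cs

open Nat

theorem factorial_add_le (r k : ℕ) : (r + k)! ≤ r ! * (r + k) ^ k := by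
  induction k with
  | zero => simp
  | succ k ih =>
    rw [← Nat.add_assoc, Nat.factorial_succ, pow_succ]
    calc (r + k + 1) * (r + k)! ≤ (r + k + 1) * (r ! * (r + k) ^ k) := Nat.mul_le_mul_left _ ih
      _ ≤ (r + k + 1) * (r ! * (r + k + 1) ^ k) :=
        Nat.mul_le_mul_left _ (Nat.mul_le_mul_left _ (Nat.pow_le_pow_left (Nat.le_succ _) k))
      _ = r ! * ((r + k + 1) ^ k * (r + k + 1)) := by ring

theorem le_factorial_add (r k : ℕ) : r ! * r ^ k ≤ (r + k)! := by
  induction k with
  | zero => simp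
  | succ k ih =>
    rw [← Nat.add_assoc, Nat.factorial_succ, pow_succ]
    calc r ! * (r ^ k * r) = r * (r ! * r ^ k) := by ring
      _ ≤ r * (r + k)! := Nat.mul_le_mul_left _ ih
      _ ≤ (r + k + 1) * (r + k)! := Nat.mul_le_mul_right _ (by omega)

theorem lt_factorial {u : ℕ} (hu : 5 ≤ u) : 16 * u < u ! := by
  obtain ⟨v, rfl⟩ := Nat.exists_eq_add_of_le' (show 1 ≤ u by omega)
  rw [Nat.factorial_succ]
  have h1 : 4 ! ≤ v ! := Nat.factorial_le (by omega)
  have h2 : 4 ! = 24 := rfl
  nlinarith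

/-- **The size condition** for `r > 4 n / 5`. -/
theorem size_of_large {n r : ℕ} (hr : 20 ≤ r) (h1 : 4 * n < 5 * r) (h2 : r ≤ n) :
    4 * (n ! * (r * (n - r)!)) < (r !) ^ 2 := by
  obtain ⟨k, rfl⟩ := Nat.exists_eq_add_of_le h2
  rw [Nat.add_sub_cancel_left]
  have hk : 4 * k < r := by omega
  -- `r = u + 3 k`
  obtain ⟨u, rfl⟩ := Nat.exists_eq_add_of_le' (show 3 * k ≤ r by omega)
  have hu : u + 3 * k < 4 * u := by omega
  have hu5 : 5 ≤ u := by omega
  set R := u + 3 * k with hR
  have e1 : (R + k)! ≤ R ! * (R + k) ^ k := factorial_add_le R k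
  have e2 : k ! ≤ k ^ k := Nat.factorial_le_pow k
  have e3 : u ! * u ^ (3 * k) ≤ R ! := le_factorial_add u (3 * k)
  have e4 : 16 * u < u ! := lt_factorial hu5
  have hupos : 0 < u := by omega
  have hRpos : 0 < R := by omega
  -- main estimate, multiplied by `64 ^ k`
  have e5 : 64 ^ k * (4 * (R * ((R + k) ^ k * k ^ k))) < 64 ^ k * R ! := by
    have f1 : 64 ^ k * (4 * (R * ((R + k) ^ k * k ^ k))) = 4 * R * (4 ^ k * ((4 * (R + k)) ^ k * (4 * k) ^ k)) := by
      rw [mul_pow, mul_pow, show (64 : ℕ) = 4 * (4 * 4) by norm_num, mul_pow, mul_pow]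
      ring
    have f2 : 4 ^ k * ((4 * (R + k)) ^ k * (4 * k) ^ k) ≤ 4 ^ k * ((5 * R) ^ k * R ^ k) :=
      Nat.mul_le_mul_left _ (Nat.mul_le_mul (Nat.pow_le_pow_left (by omega) k) (Nat.pow_le_pow_left (by omega) k))
    have f3 : 4 ^ k * ((5 * R) ^ k * R ^ k) ≤ R ^ (3 * k) := by
      have : 4 ^ k * ((5 * R) ^ k * R ^ k) = (20 * R ^ 2) ^ k := by
        rw [← mul_pow, ← mul_pow]
        congr 1
        ring
      rw [this, pow_mul]
      apply Nat.pow_le_pow_left
      calc 20 * R ^ 2 ≤ R * R ^ 2 := Nat.mul_le_mul_right _ (by omega)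
        _ = R ^ 3 := by ring
    have f4 : R ^ (3 * k) ≤ 64 ^ k * u ^ (3 * k) := by
      have : (64 : ℕ) ^ k * u ^ (3 * k) = (4 * u) ^ (3 * k) := by
        rw [mul_pow, pow_mul 4 3 k]
        norm_num
      rw [this]
      exact Nat.pow_le_pow_left hu.le _
    calc 64 ^ k * (4 * (R * ((R + k) ^ k * k ^ k))) = 4 * R * (4 ^ k * ((4 * (R + k)) ^ k * (4 * k) ^ k)) := f1
      _ ≤ 4 * R * (64 ^ k * u ^ (3 * k)) := Nat.mul_le_mul_left _ (f2.trans (f3.trans f4))
      _ < u ! * (64 ^ k * u ^ (3 * k)) := by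
        apply Nat.mul_lt_mul_of_pos_right _ (by positivity)
        omega
      _ = 64 ^ k * (u ! * u ^ (3 * k)) := by ring
      _ ≤ 64 ^ k * R ! := Nat.mul_le_mul_left _ e3
  have e6 : 4 * (R * ((R + k) ^ k * k ^ k)) < R ! := Nat.lt_of_mul_lt_mul_left e5
  calc 4 * ((R + k)! * (R * k !)) ≤ 4 * ((R ! * (R + k) ^ k) * (R * k ^ k)) :=
        Nat.mul_le_mul_left _ (Nat.mul_le_mul e1 (Nat.mul_le_mul_left _ e2))
    _ = R ! * (4 * (R * ((R + k) ^ k * k ^ k))) := by ring
    _ < R ! * R ! := Nat.mul_lt_mul_of_pos_left e6 R.factorial_pos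
    _ = (R !) ^ 2 := by ring

/-- two summands prime to `D` -/
theorem exists_coprime_pair {D k : ℕ} (hD : 2 ≤ D) (hD2 : Even D) (hk : Even k) (h6 : 6 * D ≤ k) :
    ∃ i, 3 ≤ i ∧ i < k - i ∧ i ≤ k ∧ Odd i ∧ Odd (k - i) ∧ Nat.Coprime i D ∧ Nat.Coprime (k - i) D := by
  classical
  have hD0 : D ≠ 0 := by omega
  have pp : Set.Pairwise (D.primeFactors : Set ℕ) (Function.onFun Nat.Coprime fun q => q) := by
    intro a ha b hb hab
    exact (Nat.coprime_primes (Nat.prime_of_mem_primeFactors ha) (Nat.prime_of_mem_primeFactors hb)).mpr hab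
  have hne : ∀ i ∈ D.primeFactors, (fun q : ℕ => q) i ≠ 0 := fun i hi => (Nat.prime_of_mem_primeFactors hi).ne_zero
  obtain ⟨i₀, hi₀⟩ := Nat.chineseRemainderOfFinset (fun q => if q ∣ k - 1 then q - 1 else 1) (fun q : ℕ => q)
    D.primeFactors hne pp
  have hlt : i₀ % D < D := Nat.mod_lt _ (by omega)
  have key : ∀ q : ℕ, q.Prime → q ∣ D → ¬ q ∣ (i₀ % D + 2 * D) ∧ ¬ q ∣ k - (i₀ % D + 2 * D) := by
    intro q hq hqD
    have h1 := hi₀ q (Nat.mem_primeFactors.mpr ⟨hq, hqD, hD0⟩)
    have h2 : i₀ % D + 2 * D ≡ (if q ∣ k - 1 then q - 1 else 1) [MOD q] := by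
      have h3 : i₀ % D ≡ i₀ [MOD q] := (Nat.mod_modEq i₀ D).of_dvd hqD
      have h4 : 2 * D ≡ 0 [MOD q] := (Nat.modEq_zero_iff_dvd).mpr (hqD.mul_left 2)
      exact (h3.add h4).trans h1
    have hq2 := hq.two_le
    have hle : i₀ % D + 2 * D ≤ k := by omega
    by_cases hqk : q ∣ k - 1
    · rw [if_pos hqk] at h2
      have hq3 : q ≠ 2 := by
        rintro rfl
        have h5 : Even (k - 1) := even_iff_two_dvd.mpr hqk
        obtain ⟨a, ha⟩ := hk
        obtain ⟨b, hb⟩ := h5
        omega
      constructor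
      · intro h5
        have h6 : q ∣ q - 1 := (Nat.ModEq.dvd_iff h2 dvd_rfl).mp h5
        have := Nat.le_of_dvd (by omega) h6
        omega
      · intro h5
        -- `k = (k - i) + i ≡ -1`, and `k ≡ 1`
        have h6 : k ≡ q - 1 [MOD q] := by
          have h7 : k - (i₀ % D + 2 * D) ≡ 0 [MOD q] := (Nat.modEq_zero_iff_dvd).mpr h5
          have h8 := h7.add h2
          rwa [Nat.sub_add_cancel hle, zero_add] at h8
        have h7 : k ≡ 1 [MOD q] := ((Nat.modEq_iff_dvd' (by omega)).mpr hqk).symm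
        have h8 : (1 : ℕ) ≡ q - 1 [MOD q] := h7.symm.trans h6
        have h9 : q ∣ q - 1 - 1 := (Nat.modEq_iff_dvd' (by omega)).mp h8
        have h10 : q - 1 - 1 = 0 ∨ q ≤ q - 1 - 1 := by
          rcases Nat.eq_zero_or_pos (q - 1 - 1) with h | h
          · exact Or.inl h
          · exact Or.inr (Nat.le_of_dvd h h9)
        omega
    · rw [if_neg hqk] at h2
      constructor
      · intro h5
        have h6 : q ∣ 1 := (Nat.ModEq.dvd_iff h2 dvd_rfl).mp h5
        have := Nat.le_of_dvd one_pos h6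
        omega
      · intro h5
        apply hqk
        have h7 : k - (i₀ % D + 2 * D) ≡ 0 [MOD q] := (Nat.modEq_zero_iff_dvd).mpr h5
        have h8 := h7.add h2
        rw [Nat.sub_add_cancel hle, zero_add] at h8
        exact (Nat.modEq_iff_dvd' (by omega)).mp h8.symm
  have hc : ∀ a : ℕ, (∀ q : ℕ, q.Prime → q ∣ D → ¬ q ∣ a) → Nat.Coprime a D := by
    intro a ha
    apply Nat.Coprime.symm
    apply Nat.coprime_of_dvd
    intro q hq hqD hqa
    exact ha q hq hqD hqa
  have hodd : ∀ a : ℕ, Nat.Coprime a D → Odd a := by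
    intro a ha
    by_contra hcon
    rw [Nat.not_odd_iff_even] at hcon
    have h1 : 2 ∣ Nat.gcd a D := Nat.dvd_gcd hcon.two_dvd hD2.two_dvd
    rw [ha.gcd_eq_one] at h1
    omega
  have c1 := hc _ fun q hq hqD => (key q hq hqD).1
  have c2 := hc _ fun q hq hqD => (key q hq hqD).2
  exact ⟨i₀ % D + 2 * D, by omega, by omega, by omega, hodd _ c1, hodd _ c2, c1, c2⟩

end Cfsg.Agent.H427.Cs
end

-- part: H427/CsStart
section
/-!
# Good primes (helper427)
-/

set_option autoImplicit false

namespace Cfsg.Agent.H427.Cs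

open Subgroup Nat

variable {G : Type*} [Group G] [Finite G] {n : ℕ}

/-- the elements of order `r` have small centralizers -/
def Good (G : Type*) [Group G] (n r : ℕ) : Prop := ∀ x : G, orderOf x = r → cc x ∣ r * (n - r)!

theorem Hyp.start_table (h : Hyp G n) (hn : 5 ≤ n) {s t r₁ : ℕ} (hs : s.Prime) (ht : t.Prime) (hr₁ : r₁.Prime)
    (h1 : n < 2 * s) (h2 : s < t) (h3 : t < r₁) (h1n : r₁ ≤ n) (hsize : 4 * (n ! * (r₁ * (n - r₁)!)) < (r₁ !) ^ 2)
    (hgcd : Nat.gcd (s - 1) (t - 1) = 2) (hk : n - r₁ ≠ 2) {r₀ : ℕ} (hr₀ : r₀.Prime) (h01 : r₁ ≤ r₀) (h0n : r₀ ≤ n) :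
    Good G n r₀ := by
  have hodd : Odd r₁ := hr₁.odd_of_ne_two (by omega)
  obtain ⟨l, hl1, hl2, hl3⟩ : ∃ l : Finset ℕ, (∀ i ∈ l, Odd i ∧ 3 ≤ i ∧ i ≤ n - r₁) ∧ ∑ i ∈ l, i + r₁ ≤ n ∧
      n ≤ ∑ i ∈ l, i + r₁ + 1 := by
    rcases Nat.lt_or_ge (n - r₁) 2 with h4 | h4
    · exact ⟨∅, by simp, by simpa using h1n, by simp; omega⟩
    · rcases Nat.even_or_odd (n - r₁) with h5 | h5
      · have h6 : 4 ≤ n - r₁ := by
          obtain ⟨a, ha⟩ := h5
          omega
        refine ⟨{n - r₁ - 1}, ?_, ?_, ?_⟩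
        · intro i hi
          rw [Finset.mem_singleton] at hi
          subst hi
          refine ⟨?_, by omega, by omega⟩
          obtain ⟨a, ha⟩ := h5
          exact ⟨a - 1, by omega⟩
        · rw [Finset.sum_singleton]; omega
        · rw [Finset.sum_singleton]; omega
      · have h6 : 3 ≤ n - r₁ := by
          obtain ⟨a, ha⟩ := h5
          omega
        refine ⟨{n - r₁}, ?_, ?_, ?_⟩
        · intro i hi
          rw [Finset.mem_singleton] at hi
          subst hi
          exact ⟨h5, h6, le_rfl⟩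
        · rw [Finset.sum_singleton]; omega
        · rw [Finset.sum_singleton]; omega
  obtain ⟨g, hg⟩ := h.exs r₁ hr₁ hodd (by omega) h1n l (fun i hi => ⟨(hl1 i hi).1, (hl1 i hi).2.1⟩)
    (fun hm => by have := (hl1 _ hm).2.2; omega) hl2 hl3
  have hgodd : Odd (cc g) := by
    rw [hg]
    apply hodd.mul
    have : ∀ m : Finset ℕ, (∀ i ∈ m, Odd i) → Odd (∏ i ∈ m, i) := by
      intro m
      induction m using Finset.induction_on with
      | empty => intro _; simp
      | insert a s ha ih =>
        intro hm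
        rw [Finset.prod_insert ha]
        exact (hm a (Finset.mem_insert_self a s)).mul (ih fun i hi => hm i (Finset.mem_insert_of_mem hi))
    exact this l fun i hi => (hl1 i hi).1
  have hgr : r₁ ∣ cc g := by rw [hg]; exact Nat.dvd_mul_right _ _
  have hgI : cc g ∣ r₁ * (n - r₁)! := by
    rcases h.dich r₁ hr₁ (by omega) h1n g hgr with h4 | h4
    · exact h4
    · exfalso
      have h5 : 2 ∣ cc g := by
        refine Dvd.dvd.trans ?_ h4
        have h6 : 4 ! ∣ r₁ ! := Nat.factorial_dvd_factorial (by omega)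
        rw [show 4 ! = 2 * 12 by rfl] at h6
        obtain ⟨c, hc⟩ := h6
        rw [hc, mul_assoc, Nat.mul_div_cancel_left _ two_pos]
        exact (show 2 ∣ 12 by norm_num).mul_right c
      exact (Nat.not_even_iff_odd.mpr hgodd) (even_iff_two_dvd.mpr h5)
  refine fun x hx => h.good_of_start hn hr₁ (by omega) h1n hsize hgr hgI ?_ hr₀ h01 h0n x hx
  intro q hq hqg _ hqs
  have h4 := hqs s hs h1 (by omega)
  have h5 := hqs t ht (by omega) h3
  have h6 : q ∣ 2 := by rw [← hgcd]; exact Nat.dvd_gcd h4 h5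
  have h7 : q = 2 := (Nat.prime_dvd_prime_iff_eq hq Nat.prime_two).mp h6
  subst h7
  exact (Nat.not_even_iff_odd.mpr hgodd) (even_iff_two_dvd.mpr hqg)

theorem Hyp.start_small (h : Hyp G n) (hn : 5 ≤ n) {s r₁ : ℕ} (hs : s.Prime) (hr₁ : r₁.Prime)
    (h1 : n < 2 * s) (h3 : s < r₁) (h1n : r₁ ≤ n) (hsize : 4 * (n ! * (r₁ * (n - r₁)!)) < (r₁ !) ^ 2)
    (hk : n - r₁ ≤ 3) {r₀ : ℕ} (hr₀ : r₀.Prime) (h01 : r₁ ≤ r₀) (h0n : r₀ ≤ n) :
    Good G n r₀ := by
  have hs3 : 3 ≤ s := by omega
  have hr5 : 5 ≤ r₁ := by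
    by_contra hcon
    have : r₁ = 4 := by omega
    subst this
    exact absurd hr₁ (by norm_num)
  have hodd : Odd r₁ := hr₁.odd_of_ne_two (by omega)
  obtain ⟨g, hgr, hgI⟩ := h.ex0 r₁ hr₁ hodd (by omega) h1n
  refine fun x hx => h.good_of_start hn hr₁ (by omega) h1n hsize hgr hgI ?_ hr₀ h01 h0n x hx
  intro q hq hqg hq2 hqs
  have h4 := hqs s hs h1 h3
  have h5 : q ≤ s - 1 := Nat.le_of_dvd (by omega) h4
  -- `2 q ≤ r₁`
  have h6 : 2 * q ≤ r₁ := by
    by_cases hq2 : q = 2
    · omega
    · have hse : 2 ∣ s - 1 := by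
        have := hs.odd_of_ne_two (by omega)
        obtain ⟨a, ha⟩ := this
        exact ⟨a, by omega⟩
      have h7 : 2 * q ∣ s - 1 :=
        Nat.Coprime.mul_dvd_of_dvd_of_dvd ((Nat.coprime_primes Nat.prime_two hq).mpr (Ne.symm hq2)) hse h4
      have := Nat.le_of_dvd (by omega) h7
      omega
  have h7 : q ^ 2 ∣ r₁ ! / 2 := by
    by_cases hq2 : q = 2
    · subst hq2
      have h8 : 4 ! ∣ r₁ ! := Nat.factorial_dvd_factorial (by omega)
      rw [show 4 ! = 2 * (2 ^ 2 * 3) by rfl] at h8
      obtain ⟨c, hc⟩ := h8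
      rw [hc, mul_assoc, Nat.mul_div_cancel_left _ two_pos, mul_assoc]
      exact Nat.dvd_mul_right _ _
    · have h8 : q ^ 2 ∣ r₁ ! := by
        refine Dvd.dvd.trans ?_ (Nat.factorial_dvd_factorial h6)
        have h9 : 2 * q = (2 * q - 1) + 1 := by have := hq.pos; omega
        rw [h9, Nat.factorial_succ, ← h9]
        have h10 : q ∣ (2 * q - 1)! := Nat.dvd_factorial hq.pos (by have := hq.two_le; omega)
        rw [pow_two]
        exact Nat.mul_dvd_mul (Nat.dvd_mul_left q 2) h10
      have heven : 2 ∣ r₁ ! := Nat.dvd_factorial two_pos hr₁.two_le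
      have hb : r₁ ! = 2 * (r₁ ! / 2) := (Nat.mul_div_cancel' heven).symm
      rw [hb] at h8
      exact (Nat.Coprime.dvd_of_dvd_mul_left
        (Nat.Coprime.pow_left 2 ((Nat.coprime_primes hq Nat.prime_two).mpr hq2)) h8)
  have h8 := hq2 h7
  -- but `r₁ (n - r₁)!` is squarefree at `q`
  have h9 : q ^ 2 ∣ (n - r₁)! := by
    have hqr : Nat.Coprime (q ^ 2) r₁ := Nat.Coprime.pow_left 2 ((Nat.coprime_primes hq hr₁).mpr (by omega))
    exact hqr.dvd_of_dvd_mul_left h8
  have h10 : (n - r₁)! ∣ 6 := by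
    have : (n - r₁)! ∣ 3 ! := Nat.factorial_dvd_factorial hk
    exact this
  have h11 : q ^ 2 ∣ 6 := h9.trans h10
  have h12 : q ^ 2 ≤ 6 := Nat.le_of_dvd (by norm_num) h11
  have h13 : q = 2 := by
    have := hq.two_le
    have : q < 3 := by
      by_contra hcon
      have : 3 ^ 2 ≤ q ^ 2 := Nat.pow_le_pow_left (by omega) 2
      omega
    omega
  subst h13
  norm_num at h11

theorem Hyp.start_large (h : Hyp G n) (hn : 5 ≤ n) {s t r₁ : ℕ} (hs : s.Prime) (ht : t.Prime) (hr₁ : r₁.Prime)
    (h1 : n < 2 * s) (h2 : s < t) (h3 : t < r₁) (h1n : r₁ ≤ n) (hsize : 4 * (n ! * (r₁ * (n - r₁)!)) < (r₁ !) ^ 2)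
    (hk : 6 * (t - s) < n - r₁) {r₀ : ℕ} (hr₀ : r₀.Prime) (h01 : r₁ ≤ r₀) (h0n : r₀ ≤ n) :
    Good G n r₀ := by
  have hodd : Odd r₁ := hr₁.odd_of_ne_two (by omega)
  have hsodd : Odd s := hs.odd_of_ne_two (by omega)
  have htodd : Odd t := ht.odd_of_ne_two (by omega)
  have hDe : Even (t - s) := Nat.Odd.sub_odd htodd hsodd
  have hD2 : 2 ≤ t - s := by
    obtain ⟨a, ha⟩ := hDe
    omega
  obtain ⟨k, hke, hk1, hk2⟩ : ∃ k, Even k ∧ k ≤ n - r₁ ∧ n - r₁ ≤ k + 1 := by
    rcases Nat.even_or_odd (n - r₁) with h5 | h5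
    · exact ⟨n - r₁, h5, le_rfl, by omega⟩
    · obtain ⟨a, ha⟩ := h5
      exact ⟨2 * a, even_two_mul a, by omega, by omega⟩
  obtain ⟨i, hi3, hik, hile, hio, hko, hc1, hc2⟩ := exists_coprime_pair hD2 hDe hke (by omega)
  have hne : i ≠ k - i := by omega
  have hsum : ∑ j ∈ ({i, k - i} : Finset ℕ), j = k := by
    rw [Finset.sum_pair hne]
    omega
  have hprod : ∏ j ∈ ({i, k - i} : Finset ℕ), j = i * (k - i) := Finset.prod_pair hne
  obtain ⟨g, hg⟩ := h.exs r₁ hr₁ hodd (by omega) h1n {i, k - i} (by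
      intro j hj
      rw [Finset.mem_insert, Finset.mem_singleton] at hj
      rcases hj with rfl | rfl
      · exact ⟨hio, hi3⟩
      · exact ⟨hko, by omega⟩)
    (by
      intro hm
      rw [Finset.mem_insert, Finset.mem_singleton] at hm
      (clear * - h1 h3 hD2 hk1 hile hm; omega))
    (by rw [hsum]; omega) (by rw [hsum]; omega)
  rw [hprod] at hg
  have hgr : r₁ ∣ cc g := by rw [hg]; exact Nat.dvd_mul_right _ _
  have hgodd : Odd (cc g) := by
    rw [hg]
    exact hodd.mul (hio.mul hko)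
  have hgI : cc g ∣ r₁ * (n - r₁)! := by
    rcases h.dich r₁ hr₁ (by omega) h1n g hgr with h4 | h4
    · exact h4
    · exfalso
      have h5 : 2 ∣ cc g := by
        refine Dvd.dvd.trans ?_ h4
        have h6 : 4 ! ∣ r₁ ! := Nat.factorial_dvd_factorial (by omega)
        rw [show 4 ! = 2 * 12 by rfl] at h6
        obtain ⟨c, hc⟩ := h6
        rw [hc, mul_assoc, Nat.mul_div_cancel_left _ two_pos]
        exact (show 2 ∣ 12 by norm_num).mul_right c
      exact (Nat.not_even_iff_odd.mpr hgodd) (even_iff_two_dvd.mpr h5)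
  refine fun x hx => h.good_of_start hn hr₁ (by omega) h1n hsize hgr hgI ?_ hr₀ h01 h0n x hx
  intro q hq hqg _ hqs
  have h4 := hqs s hs h1 (by omega)
  have h5 := hqs t ht (by omega) h3
  have h6 : q ∣ t - s := by
    have h7 := Nat.dvd_sub h5 h4
    have h8 : t - 1 - (s - 1) = t - s := by (clear * - h1; omega)
    rwa [h8] at h7
  have h7 : q ≤ s - 1 := Nat.le_of_dvd (by omega) h4
  rw [hg] at hqg
  have hnc : ∀ a, Nat.Coprime a (t - s) → ¬ q ∣ a := by
    intro a ha hqa
    have h9 : q ∣ Nat.gcd a (t - s) := Nat.dvd_gcd hqa h6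
    rw [ha.gcd_eq_one] at h9
    exact hq.one_lt.ne' (Nat.dvd_one.mp h9)
  rcases hq.dvd_mul.mp hqg with h8 | h8
  · have := (Nat.prime_dvd_prime_iff_eq hq hr₁).mp h8
    omega
  · rcases hq.dvd_mul.mp h8 with h9 | h9
    · exact hnc _ hc1 h9
    · exact hnc _ hc2 h9

end Cfsg.Agent.H427.Cs
end

-- part: H427/CsTab
section
/-!
# Good primes for every degree (helper427)
-/

set_option autoImplicit false

namespace Cfsg.Agent.H427.Cs

open Subgroup Nat
open Chebyshev (theta psi)

/-! ### many primes for `n ≥ 60000` -/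

theorem lt_card_primes {a b n C : ℕ} (hab : a ≤ b) (hb : b ≤ n) (hn : 1 ≤ n)
    (h : (C : ℝ) * Real.log n < theta (b : ℕ) - theta (a : ℕ)) :
    C < ((Finset.Ioc a b).filter Nat.Prime).card := by
  rw [Cfsg.Agent.H357.Cheb.theta_sub hab] at h
  set P := (Finset.Ioc a b).filter Nat.Prime with hP
  by_contra hc
  have h10 : ∑ t ∈ P, Real.log t ≤ ∑ t ∈ P, Real.log n := by
    refine Finset.sum_le_sum fun t ht => ?_
    rw [hP, Finset.mem_filter, Finset.mem_Ioc] at ht
    apply Real.log_le_log
    · exact_mod_cast ht.2.pos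
    · exact_mod_cast ht.1.2.trans hb
  rw [Finset.sum_const, nsmul_eq_mul] at h10
  have h11 : (P.card : ℝ) ≤ C := by exact_mod_cast (not_lt.1 hc)
  have h12 : 0 ≤ Real.log n := Real.log_nonneg (by exact_mod_cast hn)
  nlinarith only [h, h10, h11, h12]

theorem theta_nat_lower {n b : ℕ} (hn : 60000 ≤ n) (hb : 15000 ≤ b) (hbn : b ≤ n) :
    0.92129 * (b : ℝ) - 0.0094 * (n : ℝ) ≤ theta (b : ℕ) := by
  have h1 := Cfsg.Agent.H357.Cheb.theta_lower (m := b) hb
  have h2 : Real.log b ≤ Real.log n := by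
    apply Real.log_le_log
    · have : 0 < b := by omega
      exact_mod_cast this
    · exact_mod_cast hbn
  have h3 : √(b : ℝ) ≤ √(n : ℝ) := Real.sqrt_le_sqrt (by exact_mod_cast hbn)
  have h4 := Cfsg.Agent.H357.Cheb.log_le_lin hn
  have h5 := Cfsg.Agent.H357.Cheb.sqrt_le_lin hn
  have hn' : (60000 : ℝ) ≤ n := by exact_mod_cast hn
  linarith

theorem theta_nat_upper {n a : ℕ} (hn : 60000 ≤ n) (ha : 1 ≤ a) (han : a ≤ n) :
    theta (a : ℕ) ≤ 1.12 * (a : ℝ) + 0.00203 * (n : ℝ) := by
  have h1 := Cfsg.Agent.H357.Cheb.psi_upper (n := a) ha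
  have h2 := Chebyshev.theta_le_psi (a : ℝ)
  have h3 : Real.log a ≤ Real.log n := by
    apply Real.log_le_log
    · exact_mod_cast ha
    · exact_mod_cast han
  have h4 := Cfsg.Agent.H357.Cheb.log_le_lin hn
  have hn' : (60000 : ℝ) ≤ n := by exact_mod_cast hn
  linarith only [h1, h2, h3, h4]

theorem exists_large {n : ℕ} (hn : 60000 ≤ n) : ∃ s t r₁ r₂ : ℕ, s.Prime ∧ t.Prime ∧ r₁.Prime ∧ r₂.Prime ∧
    n < 2 * s ∧ s < t ∧ t < r₁ ∧ r₁ < r₂ ∧ r₂ ≤ n ∧ 4 * n < 5 * r₁ ∧ 6 * (t - s) < n - r₁ := by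
  have hn' : (60000 : ℝ) ≤ n := by exact_mod_cast hn
  have hlog := Cfsg.Agent.H357.Cheb.log_le_lin hn
  have e1 : (99 * n / 100 : ℕ) ≥ (0.99 * (n : ℝ) - 1) := by
    have h1 : 99 * n < 100 * (99 * n / 100) + 100 := by omega
    have h2 : (99 * (n : ℝ)) < 100 * ((99 * n / 100 : ℕ) : ℝ) + 100 := by exact_mod_cast h1
    linarith only [h2]
  have e2 : ((4 * n / 5 : ℕ) : ℝ) ≤ 0.8 * (n : ℝ) := by
    have h1 : 5 * (4 * n / 5) ≤ 4 * n := by omega
    have h2 : 5 * ((4 * n / 5 : ℕ) : ℝ) ≤ 4 * (n : ℝ) := by exact_mod_cast h1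
    linarith only [h2]
  have e3 : ((4 * n / 5 : ℕ) : ℝ) ≥ 0.8 * (n : ℝ) - 1 := by
    have h1 : 4 * n < 5 * (4 * n / 5) + 5 := by omega
    have h2 : 4 * (n : ℝ) < 5 * ((4 * n / 5 : ℕ) : ℝ) + 5 := by exact_mod_cast h1
    linarith only [h2]
  have e4 : ((n / 2 : ℕ) : ℝ) ≤ 0.5 * (n : ℝ) := by
    have h1 : 2 * (n / 2) ≤ n := by omega
    have h2 : 2 * ((n / 2 : ℕ) : ℝ) ≤ (n : ℝ) := by exact_mod_cast h1
    linarith only [h2]
  -- two primes in `(4n/5, 99n/100]`
  have hA : 1 < ((Finset.Ioc (4 * n / 5) (99 * n / 100)).filter Nat.Prime).card := by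
    apply lt_card_primes (n := n) (by omega) (by omega) (by omega)
    have h1 := theta_nat_lower hn (b := 99 * n / 100) (by omega) (by omega)
    have h2 := theta_nat_upper hn (a := 4 * n / 5) (by omega) (by omega)
    push_cast
    linarith only [hn', hlog, e1, e2, h1, h2]
  have hB : 250 < ((Finset.Ioc (n / 2) (4 * n / 5)).filter Nat.Prime).card := by
    apply lt_card_primes (n := n) (by omega) (by omega) (by omega)
    have h1 := theta_nat_lower hn (b := 4 * n / 5) (by omega) (by omega)
    have h2 := theta_nat_upper hn (a := n / 2) (by omega) (by omega)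
    push_cast
    linarith only [hn', hlog, e3, e4, h1, h2]
  obtain ⟨a, ha, b, hb, hab⟩ := Finset.one_lt_card.mp hA
  rw [Finset.mem_filter, Finset.mem_Ioc] at ha hb
  obtain ⟨r₁, r₂, hr₁, hr₂, h12, h1a, h2b⟩ : ∃ r₁ r₂ : ℕ, r₁.Prime ∧ r₂.Prime ∧ r₁ < r₂ ∧ 4 * n / 5 < r₁ ∧
      r₂ ≤ 99 * n / 100 := by
    rcases lt_or_gt_of_ne hab with h' | h'
    · exact ⟨a, b, ha.2, hb.2, h', ha.1.1, hb.1.2⟩
    · exact ⟨b, a, hb.2, ha.2, h', hb.1.1, ha.1.2⟩
  -- two close primes
  obtain ⟨x, hx, y, hy, hxy, hf⟩ := Finset.exists_ne_map_eq_of_card_lt_of_maps_to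
    (s := (Finset.Ioc (n / 2) (4 * n / 5)).filter Nat.Prime) (t := Finset.range 250)
    (f := fun t => (t - n / 2) / (n / 800)) (by rw [Finset.card_range]; exact hB) (by
      intro t ht
      rw [Finset.mem_coe, Finset.mem_filter, Finset.mem_Ioc] at ht
      rw [Finset.mem_coe, Finset.mem_range]
      apply Nat.div_lt_of_lt_mul
      have : 75 ≤ n / 800 := by omega
      (clear * - ht this; omega))
  rw [Finset.mem_filter, Finset.mem_Ioc] at hx hy
  obtain ⟨s, t, hs, ht, hst, h1s, h2t, hD⟩ : ∃ s t : ℕ, s.Prime ∧ t.Prime ∧ s < t ∧ n / 2 < s ∧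
      t ≤ 4 * n / 5 ∧ t - s < n / 800 := by
    have hw : 0 < n / 800 := by omega
    have hf' : (x - n / 2) / (n / 800) = (y - n / 2) / (n / 800) := hf
    have m1 := Nat.div_add_mod (x - n / 2) (n / 800)
    have m2 := Nat.div_add_mod (y - n / 2) (n / 800)
    have m3 := Nat.mod_lt (x - n / 2) hw
    have m4 := Nat.mod_lt (y - n / 2) hw
    rw [hf'] at m1
    rcases lt_or_gt_of_ne hxy with h' | h'
    · exact ⟨x, y, hx.2, hy.2, h', hx.1.1, hy.1.2, by omega⟩
    · exact ⟨y, x, hy.2, hx.2, h', hy.1.1, hx.1.2, by omega⟩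
  exact ⟨s, t, r₁, r₂, hs, ht, hr₁, hr₂, by omega, hst, by omega, h12, by omega, by omega, by omega⟩

/-! ### the table -/

open Cfsg.Agent.H357.Cheb (isP prime_of_isP)

def chkTab : ℕ → List (ℕ × ℕ × ℕ × ℕ × ℕ) → Bool
  | x, [] => Nat.ble 60000 x
  | x, (s, t, r₁, r₂, b) :: l => Nat.ble r₂ x && Nat.blt s t && Nat.blt t r₁ && Nat.blt r₁ r₂ && isP s && isP t &&
      isP r₁ && isP r₂ && Nat.blt (4 * (b - 1)) (5 * r₁) && Nat.blt (b - 1) (2 * s) &&
      Nat.beq (Nat.gcd (s - 1) (t - 1)) 2 && Nat.ble (r₁ + 3) x && chkTab b l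

def tab : List (ℕ × ℕ × ℕ × ℕ × ℕ) := [(29, 31, 37, 41, 47), (29, 31, 43, 47, 54), (41, 43, 47, 53, 59),
  (43, 47, 53, 59, 67), (53, 59, 61, 67, 77), (59, 67, 71, 73, 89), (71, 79, 83, 89, 104), (83, 97, 101, 103, 127),
  (107, 109, 113, 127, 142), (127, 131, 137, 139, 172), (149, 151, 163, 167, 204), (191, 193, 197, 199, 247),
  (227, 233, 239, 241, 299), (269, 271, 283, 293, 354), (337, 347, 349, 353, 437), (419, 421, 431, 433, 539),
  (503, 509, 521, 523, 652), (619, 641, 643, 647, 804), (751, 773, 787, 797, 984), (967, 971, 977, 983, 1222),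
  (1187, 1201, 1213, 1217, 1517), (1487, 1493, 1499, 1511, 1874), (1847, 1867, 1871, 1873, 2339),
  (2309, 2311, 2333, 2339, 2917), (2897, 2903, 2909, 2917, 3637), (3617, 3623, 3631, 3637, 4539),
  (4507, 4517, 4519, 4523, 5649), (5623, 5639, 5641, 5647, 7052), (7019, 7027, 7039, 7043, 8799),
  (8747, 8761, 8779, 8783, 10974), (10939, 10949, 10957, 10973, 13697), (13687, 13691, 13693, 13697, 17117),
  (17093, 17099, 17107, 17117, 21384), (21347, 21377, 21379, 21383, 26724), (26711, 26713, 26717, 26723, 33397),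
  (33353, 33359, 33377, 33391, 41722), (41659, 41681, 41687, 41719, 52109), (52067, 52069, 52081, 52103, 65102)]

theorem of_chkTab : ∀ (l : List (ℕ × ℕ × ℕ × ℕ × ℕ)) (x : ℕ), chkTab x l = true → ∀ n, x ≤ n → n < 60000 →
    ∃ s t r₁ r₂ : ℕ, s.Prime ∧ t.Prime ∧ r₁.Prime ∧ r₂.Prime ∧ n < 2 * s ∧ s < t ∧ t < r₁ ∧ r₁ < r₂ ∧ r₂ ≤ n ∧
      4 * n < 5 * r₁ ∧ Nat.gcd (s - 1) (t - 1) = 2 ∧ n - r₁ ≠ 2
  | [], x, h, n, h1, h2 => by
    unfold chkTab at h
    rw [Nat.ble_eq] at h
    omega
  | (s, t, r₁, r₂, b) :: l, x, h, n, h1, h2 => by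
    unfold chkTab at h
    simp only [Bool.and_eq_true, Nat.blt_eq, Nat.ble_eq, Nat.beq_eq] at h
    obtain ⟨⟨⟨⟨⟨⟨⟨⟨⟨⟨⟨⟨c1, c2⟩, c3⟩, c4⟩, c5⟩, c6⟩, c7⟩, c8⟩, c9⟩, c10⟩, c11⟩, c12⟩, c13⟩ := h
    rcases Nat.lt_or_ge n b with h3 | h3
    · exact ⟨s, t, r₁, r₂, prime_of_isP c5, prime_of_isP c6, prime_of_isP c7, prime_of_isP c8, by omega, c2, c3, c4,
        by omega, by omega, c11, by omega⟩
    · exact of_chkTab l b c13 n h3 h2

theorem chkTab_ok : chkTab 41 tab = true := by decide +kernel

variable {G : Type*} [Group G] [Finite G] {n : ℕ}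

/-- **All primes from `r₁ > 4 n / 5` on are good** for `n ≥ 41`. -/
theorem Hyp.exists_start (h : Hyp G n) (hn : 41 ≤ n) : ∃ r₁ r₂ : ℕ, r₁.Prime ∧ r₂.Prime ∧ 4 * n < 5 * r₁ ∧ r₁ < r₂ ∧
    r₂ ≤ n ∧ ∀ r₀ : ℕ, r₀.Prime → r₁ ≤ r₀ → r₀ ≤ n → Good G n r₀ := by
  by_cases h6 : n < 60000
  · obtain ⟨s, t, r₁, r₂, hs, ht, hr₁, hr₂, h1, h2, h3, h4, h5, h7, h8, h9⟩ := of_chkTab tab 41 chkTab_ok n hn h6
    exact ⟨r₁, r₂, hr₁, hr₂, h7, h4, h5, fun r₀ hr₀ h01 h0n =>
      h.start_table (by omega) hs ht hr₁ h1 h2 h3 (by omega) (size_of_large (by omega) h7 (by omega)) h8 h9 hr₀ h01 h0n⟩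
  · obtain ⟨s, t, r₁, r₂, hs, ht, hr₁, hr₂, h1, h2, h3, h4, h5, h7, h8⟩ := exists_large (n := n) (by omega)
    exact ⟨r₁, r₂, hr₁, hr₂, h7, h4, h5, fun r₀ hr₀ h01 h0n =>
      h.start_large (by omega) hs ht hr₁ h1 h2 h3 (by omega) (size_of_large (by omega) h7 (by omega)) h8 hr₀ h01 h0n⟩

/-- the largest prime is good, and there is a second large prime -/
theorem Hyp.good_max (h : Hyp G n) (hn : 5 ≤ n) (hn6 : n ≠ 6) (hn10 : n ≠ 10) : ∃ p s : ℕ, p.Prime ∧ s.Prime ∧
    n < 2 * s ∧ s < p ∧ p ≤ n ∧ (∀ q : ℕ, q.Prime → q ≤ n → q ≤ p) ∧ Good G n p := by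
  rcases Nat.lt_or_ge n 41 with h41 | h41
  · have key : ∀ p s : ℕ, p.Prime → s.Prime → n < 2 * s → s < p → p ≤ n → (∀ q ≤ n, p < q → ¬ q.Prime) →
        4 * (n ! * (p * (n - p)!)) < (p !) ^ 2 → n - p ≤ 3 →
        ∃ p s : ℕ, p.Prime ∧ s.Prime ∧ n < 2 * s ∧ s < p ∧ p ≤ n ∧ (∀ q : ℕ, q.Prime → q ≤ n → q ≤ p) ∧ Good G n p := by
      intro p s hp hs h1 h2 h3 h4 h5 h6
      exact ⟨p, s, hp, hs, h1, h2, h3, fun q hq hqn => by
        by_contra hcon
        exact h4 q hqn (by omega) hq, h.start_small hn hs hp h1 h2 h3 h5 h6 hp le_rfl h3⟩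
    have key2 : ∀ p s t : ℕ, p.Prime → s.Prime → t.Prime → n < 2 * s → s < t → t < p → p ≤ n →
        (∀ q ≤ n, p < q → ¬ q.Prime) → 4 * (n ! * (p * (n - p)!)) < (p !) ^ 2 → Nat.gcd (s - 1) (t - 1) = 2 →
        n - p ≠ 2 →
        ∃ p s : ℕ, p.Prime ∧ s.Prime ∧ n < 2 * s ∧ s < p ∧ p ≤ n ∧ (∀ q : ℕ, q.Prime → q ≤ n → q ≤ p) ∧ Good G n p := by
      intro p s t hp hs ht h1 h2 h3 h3' h4 h5 h6 h7
      exact ⟨p, s, hp, hs, h1, by omega, h3', fun q hq hqn => by
        by_contra hcon
        exact h4 q hqn (by omega) hq, h.start_table hn hs ht hp h1 h2 h3 h3' h5 h6 h7 hp le_rfl h3'⟩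
    interval_cases n
    case «5» => exact key 5 3 (by norm_num) (by norm_num) (by norm_num) (by norm_num) (by norm_num) (by decide) (by decide +kernel) (by norm_num)
    case «6» => exact absurd rfl hn6
    case «7» => exact key 7 5 (by norm_num) (by norm_num) (by norm_num) (by norm_num) (by norm_num) (by decide) (by decide +kernel) (by norm_num)
    case «8» => exact key 7 5 (by norm_num) (by norm_num) (by norm_num) (by norm_num) (by norm_num) (by decide) (by decide +kernel) (by norm_num)
    case «9» => exact key 7 5 (by norm_num) (by norm_num) (by norm_num) (by norm_num) (by norm_num) (by decide) (by decide +kernel) (by norm_num)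
    case «10» => exact absurd rfl hn10
    case «11» => exact key 11 7 (by norm_num) (by norm_num) (by norm_num) (by norm_num) (by norm_num) (by decide) (by decide +kernel) (by norm_num)
    case «12» => exact key 11 7 (by norm_num) (by norm_num) (by norm_num) (by norm_num) (by norm_num) (by decide) (by decide +kernel) (by norm_num)
    case «13» => exact key 13 11 (by norm_num) (by norm_num) (by norm_num) (by norm_num) (by norm_num) (by decide) (by decide +kernel) (by norm_num)
    case «14» => exact key 13 11 (by norm_num) (by norm_num) (by norm_num) (by norm_num) (by norm_num) (by decide) (by decide +kernel) (by norm_num)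
    case «15» => exact key 13 11 (by norm_num) (by norm_num) (by norm_num) (by norm_num) (by norm_num) (by decide) (by decide +kernel) (by norm_num)
    case «16» => exact key 13 11 (by norm_num) (by norm_num) (by norm_num) (by norm_num) (by norm_num) (by decide) (by decide +kernel) (by norm_num)
    case «17» => exact key 17 13 (by norm_num) (by norm_num) (by norm_num) (by norm_num) (by norm_num) (by decide) (by decide +kernel) (by norm_num)
    case «18» => exact key 17 13 (by norm_num) (by norm_num) (by norm_num) (by norm_num) (by norm_num) (by decide) (by decide +kernel) (by norm_num)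
    case «19» => exact key 19 17 (by norm_num) (by norm_num) (by norm_num) (by norm_num) (by norm_num) (by decide) (by decide +kernel) (by norm_num)
    case «20» => exact key 19 17 (by norm_num) (by norm_num) (by norm_num) (by norm_num) (by norm_num) (by decide) (by decide +kernel) (by norm_num)
    case «21» => exact key 19 17 (by norm_num) (by norm_num) (by norm_num) (by norm_num) (by norm_num) (by decide) (by decide +kernel) (by norm_num)
    case «22» => exact key 19 17 (by norm_num) (by norm_num) (by norm_num) (by norm_num) (by norm_num) (by decide) (by decide +kernel) (by norm_num)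
    case «23» => exact key 23 19 (by norm_num) (by norm_num) (by norm_num) (by norm_num) (by norm_num) (by decide) (by decide +kernel) (by norm_num)
    case «24» => exact key 23 19 (by norm_num) (by norm_num) (by norm_num) (by norm_num) (by norm_num) (by decide) (by decide +kernel) (by norm_num)
    case «25» => exact key 23 19 (by norm_num) (by norm_num) (by norm_num) (by norm_num) (by norm_num) (by decide) (by decide +kernel) (by norm_num)
    case «26» => exact key 23 19 (by norm_num) (by norm_num) (by norm_num) (by norm_num) (by norm_num) (by decide) (by decide +kernel) (by norm_num)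
    case «27» => exact key2 23 17 19 (by norm_num) (by norm_num) (by norm_num) (by norm_num) (by norm_num) (by norm_num) (by norm_num) (by decide) (by decide +kernel) (by norm_num) (by norm_num)
    case «28» => exact key2 23 17 19 (by norm_num) (by norm_num) (by norm_num) (by norm_num) (by norm_num) (by norm_num) (by norm_num) (by decide) (by decide +kernel) (by norm_num) (by norm_num)
    case «29» => exact key 29 23 (by norm_num) (by norm_num) (by norm_num) (by norm_num) (by norm_num) (by decide) (by decide +kernel) (by norm_num)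
    case «30» => exact key 29 23 (by norm_num) (by norm_num) (by norm_num) (by norm_num) (by norm_num) (by decide) (by decide +kernel) (by norm_num)
    case «31» => exact key 31 29 (by norm_num) (by norm_num) (by norm_num) (by norm_num) (by norm_num) (by decide) (by decide +kernel) (by norm_num)
    case «32» => exact key 31 29 (by norm_num) (by norm_num) (by norm_num) (by norm_num) (by norm_num) (by decide) (by decide +kernel) (by norm_num)
    case «33» => exact key 31 29 (by norm_num) (by norm_num) (by norm_num) (by norm_num) (by norm_num) (by decide) (by decide +kernel) (by norm_num)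
    case «34» => exact key 31 29 (by norm_num) (by norm_num) (by norm_num) (by norm_num) (by norm_num) (by decide) (by decide +kernel) (by norm_num)
    case «35» => exact key2 31 19 23 (by norm_num) (by norm_num) (by norm_num) (by norm_num) (by norm_num) (by norm_num) (by norm_num) (by decide) (by decide +kernel) (by norm_num) (by norm_num)
    case «36» => exact key2 31 19 23 (by norm_num) (by norm_num) (by norm_num) (by norm_num) (by norm_num) (by norm_num) (by norm_num) (by decide) (by decide +kernel) (by norm_num) (by norm_num)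
    case «37» => exact key 37 31 (by norm_num) (by norm_num) (by norm_num) (by norm_num) (by norm_num) (by decide) (by decide +kernel) (by norm_num)
    case «38» => exact key 37 31 (by norm_num) (by norm_num) (by norm_num) (by norm_num) (by norm_num) (by decide) (by decide +kernel) (by norm_num)
    case «39» => exact key 37 31 (by norm_num) (by norm_num) (by norm_num) (by norm_num) (by norm_num) (by decide) (by decide +kernel) (by norm_num)
    case «40» => exact key 37 31 (by norm_num) (by norm_num) (by norm_num) (by norm_num) (by norm_num) (by decide) (by decide +kernel) (by norm_num)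
  · obtain ⟨r₁, r₂, hr₁, hr₂, h1, h2, h3, h4⟩ := h.exists_start h41
    obtain ⟨p, hp, hpn, hmax⟩ : ∃ p : ℕ, p.Prime ∧ p ≤ n ∧ ∀ q : ℕ, q.Prime → q ≤ n → q ≤ p := by
      classical
      have hne : ((Finset.range (n + 1)).filter Nat.Prime).Nonempty :=
        ⟨r₂, by rw [Finset.mem_filter, Finset.mem_range]; exact ⟨by omega, hr₂⟩⟩
      obtain ⟨p, hp, hmax⟩ := Finset.exists_max_image _ id hne
      rw [Finset.mem_filter, Finset.mem_range] at hp
      refine ⟨p, hp.2, by omega, fun q hq hqn => hmax q ?_⟩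
      rw [Finset.mem_filter, Finset.mem_range]
      exact ⟨by omega, hq⟩
    have h5 := hmax r₂ hr₂ h3
    exact ⟨p, r₁, hp, hr₁, by omega, by omega, hpn, hmax, h4 p hp (by omega) hpn⟩

end Cfsg.Agent.H427.Cs
end

-- part: H427/CsRed
section
/-!
# Reduction to a simple section from one good prime (helper427)
-/

set_option autoImplicit false

namespace Cfsg.Agent.H427.Cs

open Subgroup Nat Cfsg.Agent.H363.Frat Cfsg.Agent.H363.AltPrimes Cfsg.Agent.H357.Reduce

variable {G : Type*} [Group G] [Finite G] {n : ℕ}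

/-- the odd part of the order -/
theorem Hyp.odd_fact (h : Hyp G n) {q : ℕ} (hq : q.Prime) (hq2 : q ≠ 2) :
    (Nat.card G).factorization q = (n !).factorization q := by
  obtain ⟨c, hc2, hc⟩ := h.card
  have hc0 : c ≠ 0 := by rintro rfl; simp at hc2
  have h0 : c.factorization q = 0 := Nat.factorization_eq_zero_of_not_dvd fun h1 =>
    hq2 ((Nat.prime_dvd_prime_iff_eq hq Nat.prime_two).mp (h1.trans hc2))
  rw [← hc, Nat.factorization_mul hc0 Nat.card_pos.ne', Finsupp.add_apply, h0, zero_add]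

theorem not_dvd_pred {n p s : ℕ} (hn : 4 ≤ n) (hp : p.Prime) (hs : s.Prime)
    (hnp : n < 2 * p) (hsn : s ≤ n) : ¬ p ∣ s - 1 := by
  rintro ⟨c, hc⟩
  have hs2 := hs.two_le
  have hc1 : c < 2 := by
    by_contra h
    have : p * 2 ≤ p * c := Nat.mul_le_mul_left p (by omega)
    omega
  have hc0 : c ≠ 0 := by
    rintro rfl
    omega
  have hc2 : c = 1 := by omega
  subst hc2
  rcases hp.eq_two_or_odd' with h | ⟨k, hk⟩
  · omega
  · rcases hs.eq_two_or_odd' with h | ⟨l, hl⟩
    · omega
    · omega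

omit [Finite G] in
theorem nonAdj_symm {r t : ℕ} (h : NonAdj G r t) : NonAdj G t r := fun g hg => h g (by rw [hg, mul_comm])

theorem exists_data (h : Hyp G n) (hn : 5 ≤ n) {p s : ℕ} (hp : p.Prime) (hs : s.Prime) (hns : n < 2 * s)
    (hsp : s < p) (hpn : p ≤ n) (hgood : Good G n p) :
    ∃ (N : Subgroup G) (_ : N.Normal) (M : Subgroup (G ⧸ N)), Data G n N M := by
  have hnp : n < 2 * p := by omega
  -- the primes in `(n/2, n]` divide `|G|` exactly once
  have hfac : ∀ r : ℕ, r.Prime → n < 2 * r → r ≤ n → (Nat.card G).factorization r = 1 := by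
    intro r hr h1 h2
    rw [h.odd_fact hr (by omega)]
    exact factorization_factorial hr h2 h1
  have hadj : ∀ t : ℕ, t.Prime → t ≠ p → n < 2 * t → NonAdj G p t := by
    intro t ht hrt h2
    exact nonAdj_of_good hp ht (Ne.symm hrt) (by omega) hgood
  have hpG : p ∣ Nat.card G := by
    rw [hp.dvd_iff_one_le_factorization Nat.card_pos.ne', hfac p hp hnp (by omega)]
  -- a maximal normal `p'`-subgroup
  obtain ⟨N, ⟨hNn, hNp⟩, hNmax⟩ : ∃ N : Subgroup G, (N.Normal ∧ ¬ p ∣ Nat.card N) ∧
      ∀ L : Subgroup G, (L.Normal ∧ ¬ p ∣ Nat.card L) → N ≤ L → L = N := by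
    have hfin : {L : Subgroup G | L.Normal ∧ ¬ p ∣ Nat.card L}.Finite := Set.toFinite _
    obtain ⟨N, hN⟩ := hfin.exists_maximal ⟨⊥, Subgroup.normal_bot, by
      rw [Subgroup.card_bot]; exact fun h => hp.one_lt.ne' (Nat.dvd_one.mp h)⟩
    exact ⟨N, hN.1, fun L hL hNL => le_antisymm (hN.2 hL hNL) hNL⟩
  have hpidx : p ∣ N.index := by
    have h1 := N.card_mul_index
    rw [← h1] at hpG
    rcases hp.dvd_mul.mp hpG with h | h
    · exact absurd h hNp
    · exact h
  -- a normal subgroup of `G / N` which is not trivial has order divisible by `p`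
  have hquot : ∀ M : Subgroup (G ⧸ N), M.Normal → M ≠ ⊥ → p ∣ Nat.card M := by
    intro M hMn hM0
    have hHn : (M.comap (QuotientGroup.mk' N)).Normal := hMn.comap _
    have hNH : N ≤ M.comap (QuotientGroup.mk' N) := by
      intro x hx
      rw [mem_comap]
      have : QuotientGroup.mk' N x = 1 := (QuotientGroup.eq_one_iff x).mpr hx
      rw [this]
      exact one_mem _
    have hHN : M.comap (QuotientGroup.mk' N) ≠ N := by
      intro h
      apply hM0
      rw [eq_bot_iff]
      intro y hy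
      obtain ⟨x, rfl⟩ := QuotientGroup.mk'_surjective N y
      have : x ∈ M.comap (QuotientGroup.mk' N) := hy
      rw [h] at this
      exact Subgroup.mem_bot.mpr ((QuotientGroup.eq_one_iff x).mpr this)
    have hpH : p ∣ Nat.card (M.comap (QuotientGroup.mk' N)) := by
      by_contra h
      exact hHN (hNmax _ ⟨hHn, h⟩ hNH)
    have h1 : Nat.card (M.comap (QuotientGroup.mk' N)) = Nat.card N * Nat.card M := by
      have h2 := (M.comap (QuotientGroup.mk' N)).card_mul_index
      have h3 : (M.comap (QuotientGroup.mk' N)).index = M.index :=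
        M.index_comap_of_surjective (QuotientGroup.mk'_surjective N)
      rw [h3, _root_.Cfsg.Agent.H357.Reduce.card_eq N M, ← mul_assoc] at h2
      exact Nat.eq_of_mul_eq_mul_right (Nat.pos_of_ne_zero M.index_ne_zero_of_finite) h2
    rw [h1] at hpH
    rcases hp.dvd_mul.mp hpH with h | h
    · exact absurd h hNp
    · exact h
  -- a minimal normal subgroup of `G / N`
  obtain ⟨M, hMn, hM0, hMmin⟩ : ∃ M : Subgroup (G ⧸ N), M.Normal ∧ M ≠ ⊥ ∧
      ∀ L : Subgroup (G ⧸ N), L.Normal → L ≤ M → L = ⊥ ∨ L = M := by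
    have hfin : {L : Subgroup (G ⧸ N) | L.Normal ∧ L ≠ ⊥}.Finite := Set.toFinite _
    obtain ⟨M, hM⟩ := hfin.exists_minimal ⟨⊤, Subgroup.normal_top, by
      intro h
      have h2 : Nat.card (G ⧸ N) = 1 := by
        have := Subgroup.card_top (G := G ⧸ N)
        rw [h, Subgroup.card_bot] at this
        exact this.symm
      rw [← Subgroup.index_eq_card] at h2
      rw [h2] at hpidx
      exact hp.one_lt.ne' (Nat.dvd_one.mp hpidx)⟩
    refine ⟨M, hM.1.1, hM.1.2, fun L hL hLM => ?_⟩
    by_cases h : L = ⊥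
    · exact Or.inl h
    · exact Or.inr (le_antisymm hLM (hM.2 ⟨hL, h⟩ hLM))
  have hpM : p ∣ Nat.card M := hquot M hMn hM0
  have hMG : Nat.card M * M.index ∣ Nat.card G := by
    rw [_root_.Cfsg.Agent.H357.Reduce.card_eq N M]
    exact Nat.dvd_mul_left _ _
  have hp2 : ∀ r : ℕ, r.Prime → n < 2 * r → r ≤ n → ¬ r ^ 2 ∣ Nat.card G := by
    intro r hr h1 h2 h3
    have h4 := (hr.pow_dvd_iff_le_factorization Nat.card_pos.ne').mp h3
    rw [hfac r hr h1 h2] at h4
    omega
  have hp2M : ¬ p ^ 2 ∣ Nat.card M := fun h =>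
    hp2 p hp hnp (by omega) ((h.trans (Nat.dvd_mul_right _ _)).trans hMG)
  have hsimple : IsSimpleGroup M := isSimple_of_minimal M hMmin hp hpM hp2M
  have hall : ∀ t : ℕ, t.Prime → n < 2 * t → t ≤ n → t ∣ Nat.card M := by
    intro t ht hnt htn
    by_cases htp : t = p
    · rw [htp]; exact hpM
    have htG : t ∣ Nat.card G := by
      rw [ht.dvd_iff_one_le_factorization Nat.card_pos.ne', hfac t ht hnt htn]
    -- `t` does not divide `|N|`
    have htN : ¬ t ∣ Nat.card N := by
      intro h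
      have h1 : (Nat.card N).factorization t = 1 := by
        have h2 : 1 ≤ (Nat.card N).factorization t :=
          (ht.dvd_iff_one_le_factorization Nat.card_pos.ne').mp h
        have h3 : (Nat.card N).factorization t ≤ (Nat.card G).factorization t :=
          (Nat.factorization_le_iff_dvd Nat.card_pos.ne' Nat.card_pos.ne').mpr
            (Subgroup.card_subgroup_dvd_card N) t
        rw [hfac t ht hnt htn] at h3
        omega
      have h4 := pow_dvd_of_normal hp ht (Ne.symm htp)
        (hadj t ht htp hnt) N (k := 1) (by rw [pow_one]; exact hpidx)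
      rw [h1, pow_one, pow_one] at h4
      exact not_dvd_pred (by omega) hp ht hnp htn h4
    -- `t` does not divide `|G : H|`
    have htH : ¬ t ∣ M.index := by
      intro h
      have h1 : (Nat.card M).factorization p = 1 := by
        have h2 : 1 ≤ (Nat.card M).factorization p :=
          (hp.dvd_iff_one_le_factorization Nat.card_pos.ne').mp hpM
        have h3 : ¬ 2 ≤ (Nat.card M).factorization p := fun h4 =>
          hp2M ((hp.pow_dvd_iff_le_factorization Nat.card_pos.ne').mpr h4)
        omega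
      have h4 := pow_dvd_of_normal ht hp htp
        ((nonAdj_symm (hadj t ht htp hnt)).quotient N) M (k := 1) (by rw [pow_one]; exact h)
      rw [h1, pow_one, pow_one] at h4
      exact not_dvd_pred (by omega) ht hp hnt (by omega) h4
    rw [_root_.Cfsg.Agent.H357.Reduce.card_eq N M] at htG
    rcases ht.dvd_mul.mp htG with h | h
    · exact absurd h htN
    · rcases ht.dvd_mul.mp h with h | h
      · exact h
      · exact absurd h htH
  have hnonab : ¬ ∀ a b : M, a * b = b * a := by
    intro hcommM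
    have hsM : s ∣ Nat.card M := hall s hs (by omega) (by omega)
    let _ : CommGroup M := { (inferInstance : Group M) with mul_comm := hcommM }
    have hprime : (Nat.card M).Prime := IsSimpleGroup.prime_card
    have h1 := (Nat.prime_dvd_prime_iff_eq hp hprime).mp hpM
    have h2 := (Nat.prime_dvd_prime_iff_eq hs hprime).mp hsM
    omega
  refine ⟨N, hNn, M, ⟨hMn, hsimple, hnonab, ?_, hall⟩⟩
  -- the centralizer
  by_contra hC
  have hCn : (centralizer (M : Set (G ⧸ N))).Normal := Subgroup.normal_centralizer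
  have hpC := hquot _ hCn hC
  -- `C ∩ M` is trivial
  have hdisj : Disjoint (centralizer (M : Set (G ⧸ N))) M := by
    rw [disjoint_iff]
    rcases hMmin (centralizer (M : Set (G ⧸ N)) ⊓ M) inferInstance inf_le_right with h1 | h1
    · exact h1
    · exfalso
      apply hnonab
      intro a b
      have hb : (b : G ⧸ N) ∈ centralizer (M : Set (G ⧸ N)) ⊓ M := by
        rw [h1]
        exact b.2
      apply Subtype.ext
      exact (mem_centralizer_iff.mp (mem_inf.mp hb).1 a a.2)
  have h5 : Nat.card (centralizer (M : Set (G ⧸ N))) * Nat.card M ∣ Nat.card (G ⧸ N) := by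
    have h6 : Nat.card (centralizer (M : Set (G ⧸ N))) ∣ Nat.card ((G ⧸ N) ⧸ M) := by
      apply Subgroup.card_dvd_of_injective
        ((QuotientGroup.mk' M).comp (centralizer (M : Set (G ⧸ N))).subtype)
      rw [injective_iff_map_eq_one]
      intro x hx
      have h7 : (x : G ⧸ N) ∈ M := (QuotientGroup.eq_one_iff (x : G ⧸ N)).mp hx
      have h8 : (x : G ⧸ N) ∈ centralizer (M : Set (G ⧸ N)) ⊓ M := mem_inf.mpr ⟨x.2, h7⟩
      rw [disjoint_iff.mp hdisj] at h8
      exact Subtype.ext (mem_bot.mp h8)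
    rw [← Subgroup.index_eq_card] at h6
    rw [← M.index_mul_card]
    exact Nat.mul_dvd_mul_right h6 _
  have h6 : p ^ 2 ∣ Nat.card G := by
    rw [pow_two, ← N.card_mul_index, Subgroup.index_eq_card]
    exact ((Nat.mul_dvd_mul hpC hpM).trans h5).mul_left _
  exact hp2 p hp hnp (by omega) h6

end Cfsg.Agent.H427.Cs
end

-- part: H427/CsLarge
section
/-!
# The simple section is alternating, from two good primes (helper427)
-/

set_option autoImplicit false

namespace Cfsg.Agent.H427.Cs

open Subgroup Nat Cfsg Cfsg.Agent.OrdDiv Cfsg.Agent.H363.Frat Cfsg.Agent.H363.AltPrimes Cfsg.Agent.H357.Reduce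
  Cfsg.Agent.H357 Cfsg.Agent.H405.Shape

universe u

section A

variable {G : Type*} [Group G] [Finite G] {n : ℕ} {N : Subgroup G} [N.Normal] {M : Subgroup (G ⧸ N)}

/-- a large prime divides `|G|` and `|M|` exactly once -/
theorem fact_large (D : Data G n N M) (h : Cs.Hyp G n) (hn : 5 ≤ n) {q : ℕ} (hq : q.Prime) (h1 : n < 2 * q)
    (h2 : q ≤ n) : (Nat.card M).factorization q = 1 ∧ (Nat.card N).factorization q = 0 ∧
      M.index.factorization q = 0 := by
  have e1 : (Nat.card G).factorization q = 1 := by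
    rw [h.odd_fact hq (by omega)]
    exact factorization_factorial hq h2 h1
  have e2 := D.fact_add q
  have e3 : 1 ≤ (Nat.card M).factorization q :=
    (hq.dvd_iff_one_le_factorization Nat.card_pos.ne').mp (D.primes q hq h1 h2)
  omega

theorem dvd_pow_sub_one (D : Data G n N M) {t q : ℕ} (ht : t.Prime) (hq : q.Prime) (htq : t ≠ q)
    (h1 : n < 2 * q) (h2 : q ≤ n) (h3 : n < q + t) (hg : Good G n q) :
    q ∣ t ^ (Nat.card N).factorization t - 1 := by
  have hidx : q ^ 1 ∣ N.index := by
    rw [pow_one, Subgroup.index_eq_card, ← M.card_mul_index]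
    exact (D.primes q hq h1 h2).mul_right _
  have := pow_dvd_of_normal hq ht (Ne.symm htq) (nonAdj_of_good hq ht (Ne.symm htq) h3 hg) N hidx
  rwa [pow_one] at this

theorem dvd_sub_one (D : Data G n N M) (h : Cs.Hyp G n) (hn : 5 ≤ n) {t q : ℕ} (ht : t.Prime) (hq : q.Prime)
    (htq : t ≠ q) (h1 : n < 2 * q) (h2 : q ≤ n) (h3 : n < q + t) (hg : Good G n q) (hd : t ∣ M.index) :
    t ∣ q - 1 := by
  have hN := D.normal
  have h4 := pow_dvd_of_normal ht hq htq
    ((nonAdj_symm (nonAdj_of_good hq ht (Ne.symm htq) h3 hg)).quotient N) M (k := 1) (by rw [pow_one]; exact hd)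
  rw [(fact_large D h hn hq h1 h2).1, pow_one, pow_one] at h4
  exact h4

/-- `t` odd prime, `n < 5 t`, `2 t ≤ n`, `n ≥ 41`: `t ∤ |N|` -/
theorem fact_N (D : Data G n N M) (h : Cs.Hyp G n) (hn : 41 ≤ n) {r s : ℕ} (hr : r.Prime) (hs : s.Prime)
    (h1 : 4 * n < 5 * r) (h2 : r < s) (h3 : s ≤ n) (hgr : Good G n r) (hgs : Good G n s) {t : ℕ} (ht : t.Prime)
    (h5 : n < 5 * t) (h2t : 2 * t ≤ n) : (Nat.card N).factorization t = 0 := by
  by_contra ha0
  have hnt : n < t * t := by
    have : 5 ≤ t := by omega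
    nlinarith only [hn, h5]
  have ha : (Nat.card N).factorization t * t ≤ n := by
    have e1 : (Nat.card N).factorization t ≤ (Nat.card G).factorization t := by
      have := D.fact_add t
      omega
    rw [h.odd_fact ht (by omega), factorial_factorization ht hnt] at e1
    calc (Nat.card N).factorization t * t ≤ n / t * t := Nat.mul_le_mul_right t e1
      _ ≤ n := Nat.div_mul_le_self n t
  have hdr := dvd_pow_sub_one D ht hr (by omega) (by omega) (by omega) (by omega) hgr
  have hds := dvd_pow_sub_one D ht hs (by omega) (by omega) h3 (by omega) hgs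
  have hcop : r.Coprime s := (Nat.coprime_primes hr hs).2 (by omega)
  have ht9 : 9 ≤ t := by omega
  generalize (Nat.card N).factorization t = a at *
  have ha4 : a ≤ 4 := by
    by_contra hlt
    have : 5 * t ≤ a * t := Nat.mul_le_mul_right t (by omega)
    omega
  have hr0 : ¬ r ∣ t - 1 := fun hd => by
    have := Nat.le_of_dvd (by omega) hd
    omega
  have hs0 : ¬ s ∣ t - 1 := fun hd => by
    have := Nat.le_of_dvd (by omega) hd
    omega
  obtain ⟨u, rfl⟩ : ∃ u, t = u + 1 := ⟨t - 1, by omega⟩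
  rw [Nat.add_sub_cancel] at hr0 hs0
  interval_cases a
  · exact ha0 rfl
  · rw [pow_one, Nat.add_sub_cancel] at hdr
    exact hr0 hdr
  · have e : (u + 1) ^ 2 - 1 = u * (u + 2) := by
      have : (u + 1) ^ 2 = u * (u + 2) + 1 := by ring
      omega
    rw [e] at hdr
    have h6 := (hr.dvd_mul.1 hdr).resolve_left hr0
    have := Nat.le_of_dvd (by omega) h6
    omega
  · have e : (u + 1) ^ 3 - 1 = u * (u ^ 2 + 3 * u + 3) := by
      have : (u + 1) ^ 3 = u * (u ^ 2 + 3 * u + 3) + 1 := by ring
      omega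
    rw [e] at hdr hds
    have h6 := (hr.dvd_mul.1 hdr).resolve_left hr0
    have h7 := (hs.dvd_mul.1 hds).resolve_left hs0
    have h8 := Nat.le_of_dvd (by (clear * -; positivity)) (hcop.mul_dvd_of_dvd_of_dvd h6 h7)
    nlinarith only [h1, h2, ha, h8]
  · have e : (u + 1) ^ 4 - 1 = u * ((u + 2) * (u ^ 2 + 2 * u + 2)) := by
      have : (u + 1) ^ 4 = u * ((u + 2) * (u ^ 2 + 2 * u + 2)) + 1 := by ring
      omega
    rw [e] at hdr hds
    have h6 := (hr.dvd_mul.1 hdr).resolve_left hr0
    have h7 := (hs.dvd_mul.1 hds).resolve_left hs0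
    have hr2 : ¬ r ∣ u + 2 := fun hd => by
      have := Nat.le_of_dvd (by omega) hd
      omega
    have hs2 : ¬ s ∣ u + 2 := fun hd => by
      have := Nat.le_of_dvd (by omega) hd
      omega
    have h6' := (hr.dvd_mul.1 h6).resolve_left hr2
    have h7' := (hs.dvd_mul.1 h7).resolve_left hs2
    have h8 := Nat.le_of_dvd (by (clear * -; positivity)) (hcop.mul_dvd_of_dvd_of_dvd h6' h7')
    nlinarith only [h1, h2, ha, h8]

/-- `n < 5 t`, `2 t ≤ n`, `n ≥ 41`: `t ∤ |G/N : M|` -/
theorem not_dvd_index (D : Data G n N M) (h : Cs.Hyp G n) (hn : 41 ≤ n) {r s : ℕ} (hr : r.Prime) (hs : s.Prime)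
    (h1 : 4 * n < 5 * r) (h2 : r < s) (h3 : s ≤ n) (hgr : Good G n r) (hgs : Good G n s) {t : ℕ} (ht : t.Prime)
    (h5 : n < 5 * t) (h2t : 2 * t ≤ n) : ¬ t ∣ M.index := by
  intro hd
  have hdr := dvd_sub_one D h (by omega) ht hr (by omega) (by omega) (by omega) (by omega) hgr hd
  have hds := dvd_sub_one D h (by omega) ht hs (by omega) (by omega) h3 (by omega) hgs hd
  obtain ⟨c, hc⟩ := hdr
  obtain ⟨d, hd'⟩ := hds
  obtain ⟨x, hx⟩ := hr.odd_of_ne_two (by omega)
  obtain ⟨y, hy⟩ := hs.odd_of_ne_two (by omega)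
  obtain ⟨z, hz⟩ := ht.odd_of_ne_two (by omega)
  have hd5 : d < 5 := by
    by_contra hlt
    have : t * 5 ≤ t * d := Nat.mul_le_mul_left t (by omega)
    omega
  have hcd : c < d := by
    by_contra hlt
    have : t * d ≤ t * c := Nat.mul_le_mul_left t (by omega)
    omega
  interval_cases d <;> interval_cases c <;> (clear * - h1 h2 h3 hc hx hz hy hd'; omega)

/-- **All primes `t > n / 5` divide `|M|` as often as `n!`.** -/
theorem vt_eq (D : Data G n N M) (h : Cs.Hyp G n) (hn : 41 ≤ n) {r s : ℕ} (hr : r.Prime) (hs : s.Prime)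
    (h1 : 4 * n < 5 * r) (h2 : r < s) (h3 : s ≤ n) (hgr : Good G n r) (hgs : Good G n s) {t : ℕ} (ht : t.Prime)
    (h5 : n < 5 * t) (htn : t ≤ n) : (Nat.card M).factorization t = n / t := by
  have hnt : n < t * t := by
    have : 5 ≤ t := by omega
    nlinarith only [hn, h5]
  have ht2 : t ≠ 2 := by omega
  rw [← factorial_factorization ht hnt, ← h.odd_fact ht ht2, D.fact_add t]
  by_cases h2t : 2 * t ≤ n
  · rw [fact_N D h hn hr hs h1 h2 h3 hgr hgs ht h5 h2t,
      Nat.factorization_eq_zero_of_not_dvd (not_dvd_index D h hn hr hs h1 h2 h3 hgr hgs ht h5 h2t)]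
    omega
  · obtain ⟨e1, e2, e3⟩ := fact_large D h (by omega) ht (by omega) htn
    omega

/-- `B n` divides `|M|` -/
theorem B_dvd (D : Data G n N M) (h : Cs.Hyp G n) (hn : 41 ≤ n) : Cheb.B n ∣ Nat.card M := by
  obtain ⟨r, s, hr, hs, h1, h2, h3, h4⟩ := h.exists_start hn
  apply B_dvd_of
  · exact Nat.card_pos.ne'
  · intro t ht h5 h6
    exact (vt_eq D h hn hr hs h1 h2 h3 (h4 r hr le_rfl (by omega)) (h4 s hs h2.le h3) ht h5 h6).ge

end A

theorem exists_alt (T : OrderTable.{u}) {G : Type u} [Group G] [Finite G] {n : ℕ} {N : Subgroup G} [N.Normal]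
    {M : Subgroup (G ⧸ N)} (D : Data G n N M) (h : Cs.Hyp G n) (hn : 13 ≤ n) (hk : IsKnownSimple' M) :
    ∃ m, Nonempty (M ≃* alternatingGroup (Fin m)) := by
  have hdvd : Nat.card M ∣ n ! := D.card_dvd.trans h.card_dvd
  rcases Nat.lt_or_ge n 41 with h41 | h41
  · have key : ∀ {l : List (ℕ × ℕ)} {b : ℕ} {L : List ℕ}, Small.chk l b.factorial L = true → n ≤ b →
        (∀ p ∈ L, p.Prime ∧ b < 2 * p ∧ p ≤ n) → ∃ m, Nonempty (M ≃* alternatingGroup (Fin m)) := by
      intro l b L hchk hnb hL
      refine Main.of_chk T hk D.nonab hchk (hdvd.trans (Nat.factorial_dvd_factorial hnb)) fun p hp => ?_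
      obtain ⟨h1, h2, h3⟩ := hL p hp
      exact D.primes p h1 (by omega) h3
    rcases Nat.lt_or_ge n 17 with h17 | h17
    · refine key (b := 16) (by rw [show Nat.factorial 16 = 20922789888000 by rfl]; exact Small.chk13) (by omega) ?_
      intro p hp
      simp only [List.mem_cons, List.not_mem_nil, or_false] at hp
      rcases hp with rfl | rfl <;> exact ⟨by norm_num, by norm_num, by omega⟩
    rcases Nat.lt_or_ge n 19 with h19 | h19
    · refine key (b := 18) (by rw [show Nat.factorial 18 = 6402373705728000 by rfl]; exact Small.chk17) (by omega) ?_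
      intro p hp
      simp only [List.mem_cons, List.not_mem_nil, or_false] at hp
      rcases hp with rfl | rfl | rfl <;> exact ⟨by norm_num, by norm_num, by omega⟩
    rcases Nat.lt_or_ge n 23 with h23 | h23
    · refine key (b := 22) (by rw [show Nat.factorial 22 = 1124000727777607680000 by rfl]; exact Small.chk19) (by omega) ?_
      intro p hp
      simp only [List.mem_cons, List.not_mem_nil, or_false] at hp
      rcases hp with rfl | rfl | rfl <;> exact ⟨by norm_num, by norm_num, by omega⟩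
    rcases Nat.lt_or_ge n 29 with h29 | h29
    · refine key (b := 28) (by rw [show Nat.factorial 28 = 304888344611713860501504000000 by rfl]; exact Small.chk23) (by omega) ?_
      intro p hp
      simp only [List.mem_cons, List.not_mem_nil, or_false] at hp
      rcases hp with rfl | rfl | rfl <;> exact ⟨by norm_num, by norm_num, by omega⟩
    rcases Nat.lt_or_ge n 31 with h31 | h31
    · refine key (b := 30) (by rw [show Nat.factorial 30 = 265252859812191058636308480000000 by rfl]; exact Small.chk29) (by omega) ?_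
      intro p hp
      simp only [List.mem_cons, List.not_mem_nil, or_false] at hp
      rcases hp with rfl | rfl | rfl | rfl <;> exact ⟨by norm_num, by norm_num, by omega⟩
    rcases Nat.lt_or_ge n 37 with h37 | h37
    · refine key (b := 36) (by rw [show Nat.factorial 36 = 371993326789901217467999448150835200000000 by rfl]; exact Small.chk31) (by omega) ?_
      intro p hp
      simp only [List.mem_cons, List.not_mem_nil, or_false] at hp
      rcases hp with rfl | rfl | rfl | rfl <;> exact ⟨by norm_num, by norm_num, by omega⟩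
    · refine key (b := 40) (by rw [show Nat.factorial 40 = 815915283247897734345611269596115894272000000000 by rfl]; exact Small.chk37) (by omega) ?_
      intro p hp
      simp only [List.mem_cons, List.not_mem_nil, or_false] at hp
      rcases hp with rfl | rfl | rfl | rfl <;> exact ⟨by norm_num, by norm_num, by omega⟩
  · obtain ⟨g, hr, ho⟩ := exists_shape T hk D.nonab
    obtain ⟨m, rfl⟩ := LieBound.arith h41 hdvd (B_dvd D h h41) D.primes ho
    exact ⟨m, hr⟩

end Cfsg.Agent.H427.Cs
end

-- part: H427/CsFin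
section
/-!
# The degree of the alternating section is `n` (helper427)
-/

set_option autoImplicit false

namespace Cfsg.Agent.H427.Cs

open Subgroup Nat Cfsg Cfsg.Agent.H357.Reduce Cfsg.Agent.H357

universe u

/-! ### numbers -/

theorem factorial_lt {m p n : ℕ} (hpm : p ≤ m) (hmn : m < n) (hn : n < 2 * p) :
    2 * (m ! * (n - p)!) < n ! * (m - p)! := by
  induction n, hmn using Nat.le_induction with
  | base =>
    have e1 : (m + 1)! = (m + 1) * m ! := Nat.factorial_succ m
    have e2 : (m + 1 - p)! = (m + 1 - p) * (m - p)! := by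
      rw [show m + 1 - p = (m - p) + 1 by omega, Nat.factorial_succ]
    rw [Nat.succ_eq_add_one, e1, e2]
    have h1 : 0 < m ! * (m - p)! := Nat.mul_pos (Nat.factorial_pos _) (Nat.factorial_pos _)
    calc 2 * (m ! * ((m + 1 - p) * (m - p)!)) = 2 * (m + 1 - p) * (m ! * (m - p)!) := by ring
      _ < (m + 1) * (m ! * (m - p)!) := Nat.mul_lt_mul_of_pos_right (by omega) h1
      _ = (m + 1) * m ! * (m - p)! := by ring
  | succ n hmn ih =>
    have ih' := ih (by omega)
    have hmn' : m + 1 ≤ n := hmn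
    rw [Nat.factorial_succ n, show n + 1 - p = (n - p) + 1 by omega, Nat.factorial_succ (n - p)]
    calc 2 * (m ! * ((n - p + 1) * (n - p)!)) = (n - p + 1) * (2 * (m ! * (n - p)!)) := by ring
      _ ≤ (n + 1) * (2 * (m ! * (n - p)!)) := Nat.mul_le_mul_right _ (by omega)
      _ < (n + 1) * (n ! * (m - p)!) := Nat.mul_lt_mul_of_pos_left ih' (by omega)
      _ = (n + 1) * n ! * (m - p)! := by ring

theorem fact_bound {t m n : ℕ} (ht : t.Prime) (hmn : m < n) :
    (n !).factorization t < (m !).factorization t + Nat.log 2 n + (n - m) := by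
  have h1 : n ! = n.choose m * m ! * (n - m)! := (Nat.choose_mul_factorial_mul_factorial hmn.le).symm
  have h2 : (n !).factorization t = (n.choose m).factorization t + (m !).factorization t + ((n - m)!).factorization t := by
    rw [h1, Nat.factorization_mul (Nat.mul_ne_zero (Nat.choose_pos hmn.le).ne' (Nat.factorial_ne_zero _))
      (Nat.factorial_ne_zero _), Nat.factorization_mul (Nat.choose_pos hmn.le).ne' (Nat.factorial_ne_zero _)]
    rfl
  have h3 : (n.choose m).factorization t ≤ Nat.log 2 n :=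
    Nat.factorization_choose_le_log.trans (Nat.log_anti_left (by norm_num) ht.two_le)
  have h4 := LieBound.mul_factorization_lt ht (n := n - m) (by omega)
  have h5 : ((n - m)!).factorization t ≤ (t - 1) * ((n - m)!).factorization t :=
    Nat.le_mul_of_pos_left _ (by have := ht.two_le; omega)
  omega

theorem log_bound {n : ℕ} (hn : 41 ≤ n) : 2 * (n + Nat.log 2 n + 2) < 3 * n := by
  have h1 : ∀ k : ℕ, 5 ≤ k → 2 * k + 4 < 2 ^ k := by
    intro k hk
    induction k, hk using Nat.le_induction with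
    | base => norm_num
    | succ k hk ih => rw [pow_succ]; omega
  have h2 : 2 ^ Nat.log 2 n ≤ n := Nat.pow_log_le_self 2 (by omega)
  rcases Nat.lt_or_ge (Nat.log 2 n) 5 with h3 | h3
  · omega
  · have := h1 _ h3
    omega

/-- `m` is large -/
theorem large_bound {m n : ℕ} (hn : 13 ≤ n) (hmax : ∀ q : ℕ, q.Prime → q ≤ n → q ≤ m)
    (h41 : 41 ≤ n → ∃ q : ℕ, q.Prime ∧ q ≤ n ∧ 4 * n < 5 * q) : n + Nat.log 2 n + 2 < 2 * m := by
  rcases Nat.lt_or_ge n 41 with h | h
  · have key : ∀ q b c : ℕ, q.Prime → q ≤ n → n ≤ b → b < 2 ^ (c + 1) → b + c + 2 < 2 * q →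
        n + Nat.log 2 n + 2 < 2 * m := by
      intro q b c hq h1 h2 h3 h4
      have h5 := hmax q hq h1
      have h6 : Nat.log 2 n ≤ c := by
        have : Nat.log 2 n < c + 1 := Nat.log_lt_of_lt_pow (by omega) (by omega)
        omega
      omega
    rcases Nat.lt_or_ge n 17 with h17 | h17
    · exact key 13 16 4 (by norm_num) (by omega) (by omega) (by norm_num) (by norm_num)
    rcases Nat.lt_or_ge n 19 with h19 | h19
    · exact key 17 18 4 (by norm_num) (by omega) (by omega) (by norm_num) (by norm_num)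
    rcases Nat.lt_or_ge n 23 with h23 | h23
    · exact key 19 22 4 (by norm_num) (by omega) (by omega) (by norm_num) (by norm_num)
    rcases Nat.lt_or_ge n 29 with h29 | h29
    · exact key 23 28 4 (by norm_num) (by omega) (by omega) (by norm_num) (by norm_num)
    rcases Nat.lt_or_ge n 31 with h31 | h31
    · exact key 29 30 4 (by norm_num) (by omega) (by omega) (by norm_num) (by norm_num)
    rcases Nat.lt_or_ge n 37 with h37 | h37
    · exact key 31 36 5 (by norm_num) (by omega) (by omega) (by norm_num) (by norm_num)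
    · exact key 37 40 5 (by norm_num) (by omega) (by omega) (by norm_num) (by norm_num)
  · obtain ⟨q, hq, h1, h2⟩ := h41 h
    have h3 := hmax q hq h1
    have h4 := log_bound h
    omega

/-- the centralizer of an element of large prime order -/
theorem card_centralizer_prime {m p : ℕ} (hp : p.Prime) (hm : m < 2 * p) (σ : Equiv.Perm (Fin m))
    (ho : orderOf σ = p) : cc σ = p * (m - p)! := by
  obtain ⟨k, hk⟩ := Equiv.Perm.cycleType_prime_order (σ := σ) (by rw [ho]; exact hp)
  have h1 : σ.cycleType.sum ≤ m := by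
    have := Equiv.Perm.sum_cycleType_le σ
    simpa only [_root_.ge_iff_le, _root_.Fintype.card_fin] using this
  rw [hk, ho, Multiset.sum_replicate, smul_eq_mul] at h1
  have hk0 : k = 0 := by
    by_contra h
    have : 2 * p ≤ (k + 1) * p := Nat.mul_le_mul_right p (by omega)
    omega
  subst hk0
  have hσ : σ.cycleType = {p} := by rw [hk, ho]; rfl
  unfold cc
  rw [Equiv.Perm.nat_card_centralizer, hσ, Fintype.card_fin, Multiset.sum_singleton, Multiset.prod_singleton,
    Multiset.toFinset_singleton, Finset.prod_singleton, Multiset.count_singleton_self, Nat.factorial_one, mul_one,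
    mul_comm]

/-- the class of an image under an injective homomorphism -/
theorem card_mul_cc_le {K S : Type*} [Group K] [Finite K] [Group S] [Finite S] (Θ : K →* S)
    (hΘ : Function.Injective Θ) (x : K) : Nat.card K * cc (Θ x) ≤ Nat.card S * cc x := by
  have h1 : (centralizer ({x} : Set K)).index ≤ (centralizer ({Θ x} : Set S)).index := by
    have h2 : (centralizer ({Θ x} : Set S)).comap Θ = centralizer ({x} : Set K) := by
      ext y
      rw [mem_comap, mem_centralizer_singleton_iff, mem_centralizer_singleton_iff, ← map_mul, ← map_mul]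
      exact ⟨fun h => hΘ h, fun h => by rw [h]⟩
    rw [← h2, Subgroup.index_comap]
    have h5 := Subgroup.relIndex_le_of_le_right (H := centralizer ({Θ x} : Set S)) (K := Θ.range) (L := ⊤) le_top
      (by rw [Subgroup.relIndex_top_right]; exact Subgroup.index_ne_zero_of_finite)
    rwa [Subgroup.relIndex_top_right] at h5
  have h3 := (centralizer ({x} : Set K)).card_mul_index
  have h4 := (centralizer ({Θ x} : Set S)).card_mul_index
  calc Nat.card K * cc (Θ x) = cc x * (centralizer ({x} : Set K)).index * cc (Θ x) := by rw [← h3]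
    _ ≤ cc x * (centralizer ({Θ x} : Set S)).index * cc (Θ x) :=
        Nat.mul_le_mul_right _ (Nat.mul_le_mul_left _ h1)
    _ = Nat.card S * cc x := by rw [← h4]; ring

/-- centralizer of `x` when `x` centralizes `N` and the order of `x` is prime to `|N|` -/
theorem cc_eq {G : Type*} [Group G] [Finite G] {p : ℕ} (hp : p.Prime) (N : Subgroup G) [N.Normal]
    (hpN : ¬ p ∣ Nat.card N) {x : G} (hx : orderOf x = p) (hc : ∀ y ∈ N, x * y = y * x) :
    cc x = Nat.card N * cc (QuotientGroup.mk' N x) := by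
  have h1 : (centralizer ({QuotientGroup.mk' N x} : Set (G ⧸ N))).comap (QuotientGroup.mk' N) =
      centralizer ({x} : Set G) := by
    apply le_antisymm
    · intro g hg
      rw [mem_comap, mem_centralizer_singleton_iff, ← map_mul, ← map_mul] at hg
      rw [mem_centralizer_singleton_iff]
      have h2 : g * x * (x * g)⁻¹ ∈ N := by
        rw [← QuotientGroup.eq_one_iff (N := N)]
        change QuotientGroup.mk' N (g * x * (x * g)⁻¹) = 1
        rw [map_mul, map_inv, hg, mul_inv_cancel]
      obtain ⟨u, hu⟩ : ∃ u, u = g * x * (x * g)⁻¹ := ⟨_, rfl⟩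
      rw [← hu] at h2
      have h3 : g * x * g⁻¹ = u * x := by rw [hu]; group
      have h4 : Commute u x := (hc u h2).symm
      have h5 : (u * x) ^ p = 1 := by
        rw [← h3, conj_pow, ← hx, pow_orderOf_eq_one]
        group
      rw [h4.mul_pow, ← hx, pow_orderOf_eq_one, mul_one, hx] at h5
      have h6 : orderOf u ∣ p := orderOf_dvd_of_pow_eq_one h5
      have h7 : u = 1 := by
        rcases (Nat.dvd_prime hp).mp h6 with h8 | h8
        · exact orderOf_eq_one_iff.mp h8
        · exfalso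
          apply hpN
          rw [← h8, ← Subgroup.orderOf_mk u h2]
          exact _root_.orderOf_dvd_natCard _
      rw [h7, one_mul] at h3
      calc g * x = g * x * g⁻¹ * g := by group
        _ = x * g := by rw [h3]
    · intro g hg
      rw [mem_centralizer_singleton_iff] at hg
      rw [mem_comap, mem_centralizer_singleton_iff, ← map_mul, ← map_mul, hg]
  have h2 : (centralizer ({QuotientGroup.mk' N x} : Set (G ⧸ N))).index = (centralizer ({x} : Set G)).index := by
    rw [← h1]
    exact (Subgroup.index_comap_of_surjective _ (QuotientGroup.mk'_surjective N)).symm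
  have h3 := (centralizer ({x} : Set G)).card_mul_index
  have h4 := (centralizer ({QuotientGroup.mk' N x} : Set (G ⧸ N))).card_mul_index
  have h5 := N.card_mul_index
  rw [Subgroup.index_eq_card, ← h4, ← h3, h2, ← mul_assoc] at h5
  exact (Nat.eq_of_mul_eq_mul_right (Nat.pos_of_ne_zero Subgroup.index_ne_zero_of_finite) h5).symm

variable {G : Type*} [Group G] [Finite G] {n : ℕ} {N : Subgroup G} [N.Normal] {M : Subgroup (G ⧸ N)}

/-- **the degree is `n`** -/
theorem degree_eq (D : Data G n N M) (h : Cs.Hyp G n) (hn : 13 ≤ n) {p : ℕ} (hp : p.Prime) (hnp : n < 2 * p)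
    (hpn : p ≤ n) (hmax : ∀ q : ℕ, q.Prime → q ≤ n → q ≤ p) (hg : Good G n p) {m : ℕ}
    (e : M ≃* alternatingGroup (Fin m)) (hM : 2 * Nat.card M = m !) : m = n := by
  have hpM : p ∣ Nat.card M := D.primes p hp hnp hpn
  have hMG : Nat.card M ∣ Nat.card G := D.card_dvd
  have hpm : p ≤ m := by
    rw [← hp.dvd_factorial, ← hM]
    exact hpM.mul_left 2
  have hmn : m ≤ n := by
    by_contra hlt
    have h1 : (n + 1)! ∣ 2 * n ! := by
      have h2 : (n + 1)! ∣ m ! := Nat.factorial_dvd_factorial (by omega)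
      rw [← hM] at h2
      exact h2.trans (Nat.mul_dvd_mul_left 2 (hMG.trans h.card_dvd))
    rw [Nat.factorial_succ] at h1
    have h2 : n + 1 ∣ 2 := Nat.dvd_of_mul_dvd_mul_right (Nat.factorial_pos n) h1
    have := Nat.le_of_dvd (by norm_num) h2
    omega
  by_contra hne
  have hlt : m < n := by omega
  have hm9 : 9 ≤ m := by
    have := hmax 13 (by norm_num) hn
    omega
  have hlarge := large_bound (m := m) hn (fun q hq hqn => (hmax q hq hqn).trans hpm) (fun h41 => by
    obtain ⟨r, s, hr, hs, h1, h2, h3, _⟩ := h.exists_start h41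
    exact ⟨r, hr, by omega, h1⟩)
  obtain ⟨hf1, hf2, hf3⟩ := fact_large D h (by omega) hp hnp hpn
  have hpN : ¬ p ∣ Nat.card N := by
    intro h1
    have := (hp.dvd_iff_one_le_factorization Nat.card_pos.ne').mp h1
    omega
  obtain ⟨c, hc2, hcG⟩ := h.card
  have hcard := _root_.Cfsg.Agent.H357.Reduce.card_eq N M
  -- the preimage of `M`
  let π : M.comap (QuotientGroup.mk' N) →* alternatingGroup (Fin m) :=
    e.toMonoidHom.comp ((QuotientGroup.mk' N).subgroupComap M)
  have hπ : Function.Surjective π :=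
    e.surjective.comp (MonoidHom.subgroupComap_surjective_of_surjective _ M (QuotientGroup.mk'_surjective N))
  have hNL : N ≤ M.comap (QuotientGroup.mk' N) := by
    intro x hx
    rw [mem_comap, show QuotientGroup.mk' N x = 1 from (QuotientGroup.eq_one_iff x).mpr hx]
    exact one_mem _
  have hker : π.ker = N.subgroupOf (M.comap (QuotientGroup.mk' N)) := by
    ext x
    rw [MonoidHom.mem_ker, mem_subgroupOf, ← QuotientGroup.eq_one_iff (N := N)]
    change e ((QuotientGroup.mk' N).subgroupComap M x) = 1 ↔ _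
    rw [map_eq_one_iff e e.injective]
    constructor
    · intro h1
      exact congrArg Subtype.val h1
    · intro h1
      exact Subtype.ext h1
  have hkc : Nat.card π.ker = Nat.card N := by
    rw [hker]
    exact Nat.card_congr (Subgroup.subgroupOfEquivOfLe hNL).toEquiv
  have hpA : p ∣ Nat.card (alternatingGroup (Fin m)) := by
    rw [← Nat.card_congr e.toEquiv]
    exact hpM
  have hLdvd : Nat.card (M.comap (QuotientGroup.mk' N)) ∣ Nat.card G := Subgroup.card_subgroup_dvd_card _
  have hp2 : ¬ p ^ 2 ∣ Nat.card (M.comap (QuotientGroup.mk' N)) := fun h1 => h.sq_not_dvd hp hnp hpn (h1.trans hLdvd)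
  have hpL : p ∣ Nat.card (M.comap (QuotientGroup.mk' N)) := by
    have h1 := Subgroup.card_range_dvd π
    rw [MonoidHom.range_eq_top.mpr hπ, Subgroup.card_top] at h1
    exact hpA.trans h1
  have hv : ∀ t : ℕ, t.Prime → (Nat.card π.ker).factorization t < m - 2 := by
    intro t ht
    rw [hkc]
    have h1 : Nat.card N * m ! ∣ 2 * n ! := by
      refine ⟨c * M.index, ?_⟩
      rw [← hcG, hcard, ← hM]
      ring
    have h2 : (Nat.card N * m !).factorization t ≤ (2 * n !).factorization t :=
      (Nat.factorization_le_iff_dvd (Nat.mul_ne_zero Nat.card_pos.ne' (Nat.factorial_ne_zero _))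
        (Nat.mul_ne_zero (by norm_num) (Nat.factorial_ne_zero _))).mpr h1 t
    rw [Nat.factorization_mul Nat.card_pos.ne' (Nat.factorial_ne_zero _),
      Nat.factorization_mul (by norm_num) (Nat.factorial_ne_zero _), Finsupp.add_apply, Finsupp.add_apply] at h2
    have h3 := fact_bound (n := n) ht hlt
    have h4 : (2 : ℕ).factorization t ≤ 1 := by
      rw [Nat.prime_two.factorization]
      rw [Finsupp.single_apply]
      split_ifs <;> omega
    (clear * - hlt hlarge h2 h3 h4; omega)
  have hpF : Fact p.Prime := ⟨hp⟩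
  obtain ⟨y, hy⟩ := exists_prime_orderOf_dvd_card' p hpL
  have hyc := centralizes_ker hm9 π hπ hp hpA hp2 hv y hy
  have hx : orderOf (y : G) = p := by rw [Subgroup.orderOf_coe]; exact hy
  have hxc : ∀ z ∈ N, (y : G) * z = z * y := by
    intro z hz
    have h1 : (⟨z, hNL hz⟩ : M.comap (QuotientGroup.mk' N)) ∈ π.ker := by
      rw [hker]
      exact mem_subgroupOf.mpr hz
    exact congrArg Subtype.val (hyc _ h1)
  have hcc := cc_eq hp N hpN hx hxc
  have hgood := Nat.le_of_dvd (Nat.mul_pos hp.pos (Nat.factorial_pos _)) (hg (y : G) hx)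
  -- the symmetric group
  obtain ⟨Θ, hΘ⟩ := D.exists_hom' (by omega) (by omega) e
  have hox : orderOf (QuotientGroup.mk' N (y : G)) = p := by
    have h1 : orderOf (QuotientGroup.mk' N (y : G)) ∣ p := by rw [← hx]; exact orderOf_map_dvd _ _
    rcases (Nat.dvd_prime hp).mp h1 with h2 | h2
    · exfalso
      rw [orderOf_eq_one_iff] at h2
      have h3 : (y : G) ∈ N := (QuotientGroup.eq_one_iff _).mp h2
      apply hpN
      rw [← hx, ← Subgroup.orderOf_mk (y : G) h3]
      exact _root_.orderOf_dvd_natCard _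
    · exact h2
  have h5 := card_mul_cc_le Θ hΘ (QuotientGroup.mk' N (y : G))
  rw [card_centralizer_prime hp (by omega) (Θ (QuotientGroup.mk' N (y : G)))
    (by rw [orderOf_injective Θ hΘ, hox])] at h5
  have hSm : Nat.card (Equiv.Perm (Fin m)) = m ! := by
    rw [Nat.card_eq_fintype_card, Fintype.card_perm, Fintype.card_fin]
  rw [hSm] at h5
  -- multiply by `|N|`
  have h6 : Nat.card G * (p * (m - p)!) ≤ m ! * (p * (n - p)!) := by
    have h7 : Nat.card G = Nat.card N * Nat.card (G ⧸ N) := by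
      rw [← Subgroup.index_eq_card, N.card_mul_index]
    calc Nat.card G * (p * (m - p)!) = Nat.card N * (Nat.card (G ⧸ N) * (p * (m - p)!)) := by rw [h7]; ring
      _ ≤ Nat.card N * (m ! * cc (QuotientGroup.mk' N (y : G))) := Nat.mul_le_mul_left _ h5
      _ = m ! * cc (y : G) := by rw [hcc]; ring
      _ ≤ m ! * (p * (n - p)!) := Nat.mul_le_mul_left _ hgood
  have h7 : n ! ≤ 2 * Nat.card G := by
    rw [← hcG]
    exact Nat.mul_le_mul_right _ (Nat.le_of_dvd (by norm_num) hc2)
  have h8 := factorial_lt hpm hlt hnp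
  have h9 : p * (n ! * (m - p)!) ≤ p * (2 * (m ! * (n - p)!)) := by
    calc p * (n ! * (m - p)!) ≤ p * (2 * Nat.card G * (m - p)!) :=
          Nat.mul_le_mul_left _ (Nat.mul_le_mul_right _ h7)
      _ = 2 * (Nat.card G * (p * (m - p)!)) := by ring
      _ ≤ 2 * (m ! * (p * (n - p)!)) := Nat.mul_le_mul_left _ h6
      _ = p * (2 * (m ! * (n - p)!)) := by ring
  have h10 := Nat.le_of_mul_le_mul_left h9 hp.pos
  omega

end Cfsg.Agent.H427.Cs
end

private theorem dce_f615afeb962f : _root_.True := by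
  try have : _root_.True := by simp only [_root_.Cfsg.Agent.H427.Cs.chkTab.eq_def]
  exact _root_.True.intro
end

-- part: H427/CsMain_mg
section
set_option linter.all false
open scoped Cfsg.Agent.FastGrp

-- part: H427/CsMain
section
/-!
# Groups with the order and the class sizes of `A_n` or `S_n` (helper427)

`main_of_data` : from the reduction with `M = A_n`; `main_large` : `n ≥ 13`.
-/

set_option autoImplicit false

namespace Cfsg.Agent.H427.Cs

open Subgroup Nat Cfsg Cfsg.Agent.OrdDiv Cfsg.Agent.H357.Reduce Cfsg.Agent.H357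

universe u

/-- an element with a centralizer of odd order -/
theorem Hyp.exists_odd {G : Type*} [Group G] {n : ℕ} (h : Cs.Hyp G n) (hn : 5 ≤ n) {p s : ℕ} (hp : p.Prime)
    (hs : s.Prime) (hns : n < 2 * s) (hsp : s < p) (hpn : p ≤ n) : ∃ g : G, Odd (cc g) := by
  obtain ⟨r, hr, hrn, hnr, hr2⟩ : ∃ r : ℕ, r.Prime ∧ r ≤ n ∧ n < 2 * r ∧ n ≠ r + 2 := by
    by_cases hc : n = p + 2
    · refine ⟨s, hs, by omega, hns, ?_⟩
      intro h1
      omega
    · exact ⟨p, hp, hpn, by omega, hc⟩
  have hodd : Odd r := hr.odd_of_ne_two (by omega)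
  obtain ⟨l, hl1, hl2, hl3, hl4⟩ : ∃ l : Finset ℕ, (∀ i ∈ l, Odd i ∧ 3 ≤ i) ∧ r ∉ l ∧ ∑ i ∈ l, i + r ≤ n ∧
      n ≤ ∑ i ∈ l, i + r + 1 := by
    by_cases h1 : n ≤ r + 1
    · exact ⟨∅, by simp, by simp, by simpa using hrn, by simpa using h1⟩
    · rcases Nat.even_or_odd (n - r) with h2 | h2
      · obtain ⟨k, hk⟩ := h2
        refine ⟨{n - r - 1}, ?_, ?_, ?_, ?_⟩
        · intro i hi
          rw [Finset.mem_singleton] at hi
          subst hi
          exact ⟨⟨k - 1, by omega⟩, by omega⟩
        · rw [Finset.mem_singleton]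
          omega
        · rw [Finset.sum_singleton]
          omega
        · rw [Finset.sum_singleton]
          omega
      · obtain ⟨k, hk⟩ := h2
        refine ⟨{n - r}, ?_, ?_, ?_, ?_⟩
        · intro i hi
          rw [Finset.mem_singleton] at hi
          subst hi
          exact ⟨⟨k, hk⟩, by omega⟩
        · rw [Finset.mem_singleton]
          omega
        · rw [Finset.sum_singleton]
          omega
        · rw [Finset.sum_singleton]
          omega
  obtain ⟨g, hg⟩ := h.exs r hr hodd hnr hrn l hl1 hl2 hl3 hl4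
  refine ⟨g, ?_⟩
  rw [hg]
  exact hodd.mul (Finset.prod_induction _ Odd (fun a b ha hb => ha.mul hb) odd_one fun i hi => (hl1 i hi).1)

/-- a normal subgroup of order two is central -/
theorem central_of_two {G : Type*} [Group G] {N : Subgroup G} [N.Normal] (hN : Nat.card N = 2) :
    ∀ z ∈ N, ∀ g : G, g * z = z * g := by
  have hfin : Finite N := Nat.finite_of_card_ne_zero (by omega)
  intro z hz g
  by_cases hz1 : z = 1
  · rw [hz1, mul_one, one_mul]
  · have h4 : g * z * g⁻¹ ∈ N := ‹N.Normal›.conj_mem z hz g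
    have h5 : g * z * g⁻¹ ≠ 1 := by
      intro h6
      apply hz1
      have : z = g⁻¹ * (g * z * g⁻¹) * g := by group
      rw [this, h6]
      group
    have h6 : ∀ a ∈ N, a ≠ 1 → a = z := by
      intro a ha ha1
      by_contra hne
      have h7 : ({1, z, a} : Set G) ⊆ N := by
        rintro y (rfl | rfl | rfl)
        · exact one_mem N
        · exact hz
        · exact ha
      have h8 := Set.ncard_le_ncard h7 (Set.toFinite _)
      rw [Set.ncard_eq_three.mpr ⟨1, z, a, Ne.symm hz1, Ne.symm ha1, Ne.symm hne, rfl⟩] at h8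
      have h9 : (N : Set G).ncard = Nat.card N := (Nat.card_coe_set_eq _).symm
      omega
    have h7 := h6 _ h4 h5
    calc g * z = g * z * g⁻¹ * g := by group
      _ = z * g := by rw [h7]

theorem alt_of_data {G : Type*} [Group G] [Finite G] {n : ℕ} {N : Subgroup G} [N.Normal] {M : Subgroup (G ⧸ N)}
    (e : M ≃* alternatingGroup (Fin n)) (hG : Nat.card G = Nat.card (alternatingGroup (Fin n))) :
    Nonempty (G ≃* alternatingGroup (Fin n)) := by
  have hcardG := card_eq N M
  have hMpos : 0 < Nat.card M := Nat.card_pos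
  have h2 : Nat.card N * M.index = 1 := by
    rw [hG, ← Nat.card_congr e.toEquiv] at hcardG
    apply Nat.eq_of_mul_eq_mul_right hMpos
    calc Nat.card N * M.index * Nat.card M = Nat.card N * (Nat.card M * M.index) := by ring
      _ = 1 * Nat.card M := by rw [← hcardG, one_mul]
  have hN1 : Nat.card N = 1 := Nat.eq_one_of_mul_eq_one_right h2
  have hI1 : M.index = 1 := Nat.eq_one_of_mul_eq_one_left h2
  have htop : M = ⊤ := Subgroup.index_eq_one.mp hI1
  have hsub : Function.Bijective M.subtype := by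
    refine ⟨M.subtype_injective, ?_⟩
    intro x
    exact ⟨⟨x, by rw [htop]; exact mem_top x⟩, rfl⟩
  exact ⟨(equivOf N (Subgroup.card_eq_one.mp hN1)).trans ((MulEquiv.ofBijective M.subtype hsub).symm.trans e)⟩

theorem perm_of_data {G : Type*} [Group G] [Finite G] {n : ℕ} {N : Subgroup G} [N.Normal] {M : Subgroup (G ⧸ N)}
    (e : M ≃* alternatingGroup (Fin n)) (hn : 2 ≤ n) (hG : Nat.card G = n !)
    (hodd : ∃ g : G, Odd (cc g)) (hΘ : ∃ Θ : (G ⧸ N) →* Equiv.Perm (Fin n), Function.Injective Θ) :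
    Nonempty (G ≃* Equiv.Perm (Fin n)) := by
  have hcardG := card_eq N M
  have hMpos : 0 < Nat.card M := Nat.card_pos
  have hm : 2 * Nat.card M = n ! := by
    rw [Nat.card_congr e.toEquiv]
    exact Cfsg.Agent.H363.AltPrimes.card_alternating hn
  obtain ⟨Θ, hΘ⟩ := hΘ
  have h2 : Nat.card N * M.index = 2 := by
    rw [hG, ← hm] at hcardG
    apply Nat.eq_of_mul_eq_mul_right hMpos
    rw [hcardG]
    ring
  have hidx : M.index ∣ 2 := ⟨Nat.card N, by rw [← h2, mul_comm]⟩
  rcases (Nat.dvd_prime Nat.prime_two).1 hidx with h3 | h3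
  · exfalso
    rw [h3, mul_one] at h2
    obtain ⟨g, hg⟩ := hodd
    have h4 : N ≤ centralizer ({g} : Set G) := by
      intro z hz
      rw [mem_centralizer_singleton_iff]
      exact (central_of_two h2 z hz g).symm
    have h5 := Subgroup.card_dvd_of_le h4
    rw [h2] at h5
    exact (Nat.not_even_iff_odd.mpr hg) (even_iff_two_dvd.mpr h5)
  · rw [h3] at h2
    have hN1 : Nat.card N = 1 := by omega
    have hbij : Function.Bijective Θ := by
      rw [Nat.bijective_iff_injective_and_card]
      refine ⟨hΘ, ?_⟩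
      rw [Nat.card_eq_fintype_card (α := Equiv.Perm (Fin n)), Fintype.card_perm, Fintype.card_fin,
        ← M.card_mul_index, h3, ← hm, mul_comm]
    exact ⟨(equivOf N (Subgroup.card_eq_one.mp hN1)).trans (MulEquiv.ofBijective Θ hbij)⟩

/-- large degrees: the data with `M = A_n` -/
theorem exists_data_large (T : OrderTable.{u}) {G : Type u} [Group G] [Finite G] {n : ℕ} (hn : 13 ≤ n) (h : Cs.Hyp G n)
    (hcl : ∀ (S : Type u) [Group S] [Finite S] [IsSimpleGroup S], IsKnownSimple' S) :
    ∃ (N : Subgroup G) (_ : N.Normal) (M : Subgroup (G ⧸ N)), Data G n N M ∧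
      Nonempty (M ≃* alternatingGroup (Fin n)) := by
  obtain ⟨p, s, hp, hs, h1, h2, h3, h4, h5⟩ := h.good_max (by omega) (by omega) (by omega)
  obtain ⟨N, hN, M, D⟩ := exists_data h (by omega) hp hs h1 h2 h3 h5
  have := D.simple
  obtain ⟨m, ⟨e⟩⟩ := exists_alt T D h hn (hcl M)
  have hm := degree_eq D h hn hp (by omega) h3 h4 h5 e (Main.two_mul_card D.nonab e)
  subst hm
  exact ⟨N, hN, M, D, ⟨e⟩⟩

theorem alt_large (T : OrderTable.{u}) {G : Type u} [Group G] [Finite G] {n : ℕ} (hn : 13 ≤ n)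
    (hcard : Nat.card G = Nat.card (alternatingGroup (Fin n)))
    (hcs : Set.range (fun g : G => (centralizer ({g} : Set G)).index) =
      Set.range (fun g : alternatingGroup (Fin n) => (centralizer ({g} : Set (alternatingGroup (Fin n)))).index))
    (hcl : ∀ (S : Type u) [Group S] [Finite S] [IsSimpleGroup S], IsKnownSimple' S) :
    Nonempty (G ≃* alternatingGroup (Fin n)) := by
  obtain ⟨N, hN, M, D, ⟨e⟩⟩ := exists_data_large T hn (hyp_of_alt (by omega) hcard hcs) hcl
  exact alt_of_data e hcard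

theorem perm_large (T : OrderTable.{u}) {G : Type u} [Group G] [Finite G] {n : ℕ} (hn : 13 ≤ n)
    (hcard : Nat.card G = Nat.card (Equiv.Perm (Fin n)))
    (hcs : Set.range (fun g : G => (centralizer ({g} : Set G)).index) =
      Set.range (fun g : Equiv.Perm (Fin n) => (centralizer ({g} : Set (Equiv.Perm (Fin n)))).index))
    (hcl : ∀ (S : Type u) [Group S] [Finite S] [IsSimpleGroup S], IsKnownSimple' S) :
    Nonempty (G ≃* Equiv.Perm (Fin n)) := by
  have h := hyp_of_perm hcard hcs
  obtain ⟨N, hN, M, D, ⟨e⟩⟩ := exists_data_large T hn h hcl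
  obtain ⟨p, s, hp, hs, h1, h2, h3, _, _⟩ := h.good_max (by omega) (by omega) (by omega)
  exact perm_of_data e (by omega) (by rw [hcard, Nat.card_eq_fintype_card, Fintype.card_perm, Fintype.card_fin])
    (h.exists_odd (by omega) hp hs h1 h2 h3) (D.exists_hom' (by omega) (by omega) e)

end Cfsg.Agent.H427.Cs
end

-- part: H367/ClsGrp
section
/-!
# Groups with a given set of centralizer orders (helper367)
-/

set_option autoImplicit false

namespace Cfsg.Agent.H367.ClsGrp

open Subgroup

/-- the order of the centralizer -/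
noncomputable def co {G : Type*} [Group G] (g : G) : ℕ := Nat.card (centralizer ({g} : Set G))

/-- the set of the centralizer orders is the set of the members of `L` -/
structure CSet (G : Type*) [Group G] (L : List ℕ) : Prop where
  mem : ∀ g : G, co g ∈ L
  ex : ∀ c ∈ L, ∃ g : G, co g = c

theorem CSet.of_range {G H : Type*} [Group G] [Group H] [Finite G] [Finite H] {L : List ℕ} (h : CSet H L)
    (hcard : Nat.card G = Nat.card H)
    (hcs : Set.range (fun g : G => (centralizer ({g} : Set G)).index) =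
      Set.range (fun g : H => (centralizer ({g} : Set H)).index)) : CSet G L := by
  have key : ∀ (g : G) (k : H), (centralizer ({g} : Set G)).index = (centralizer ({k} : Set H)).index →
      co g = co k := by
    intro g k hgk
    have h1 := (centralizer ({g} : Set G)).card_mul_index
    have h2 := (centralizer ({k} : Set H)).card_mul_index
    rw [hgk, hcard, ← h2] at h1
    exact Nat.eq_of_mul_eq_mul_right (Nat.pos_of_ne_zero index_ne_zero_of_finite) h1
  constructor
  · intro g
    have : (fun g : G => (centralizer ({g} : Set G)).index) g ∈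
        Set.range (fun g : H => (centralizer ({g} : Set H)).index) := by
      rw [← hcs]
      exact ⟨g, rfl⟩
    obtain ⟨k, hk⟩ := this
    rw [key g k hk.symm]
    exact h.mem k
  · intro c hc
    obtain ⟨k, hk⟩ := h.ex c hc
    have : (fun g : H => (centralizer ({g} : Set H)).index) k ∈
        Set.range (fun g : G => (centralizer ({g} : Set G)).index) := by
      rw [hcs]
      exact ⟨k, rfl⟩
    obtain ⟨g, hg⟩ := this
    exact ⟨g, by rw [key g k hg, hk]⟩

theorem cset_sym (n : ℕ) : CSet (Equiv.Perm (Fin n)) (ClsList.zl n n) :=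
  ⟨fun σ => ClsList.sym_mem σ, fun _ hc => ClsList.sym_exists hc⟩

theorem cset_alt (n : ℕ) : CSet (alternatingGroup (Fin n)) (ClsList.altl n) :=
  ⟨fun σ => ClsList.alt_mem σ, fun _ hc => ClsList.alt_exists hc⟩

section

variable {G : Type*} [Group G]

theorem mem_cent {g h : G} : h ∈ centralizer ({g} : Set G) ↔ h * g = g * h := mem_centralizer_singleton_iff

theorem center_dvd (g : G) : Nat.card (center G) ∣ co g :=
  Subgroup.card_dvd_of_le (center_le_centralizer _)

theorem co_conj (g u : G) : co (u * g * u⁻¹) = co g := by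
  apply Nat.card_congr
  refine ⟨fun x => ⟨u⁻¹ * x.1 * u, ?_⟩, fun x => ⟨u * x.1 * u⁻¹, ?_⟩, fun x => ?_, fun x => ?_⟩
  · have := mem_cent.1 x.2
    rw [mem_cent]
    calc u⁻¹ * x.1 * u * g = u⁻¹ * (x.1 * (u * g * u⁻¹)) * u := by group
      _ = u⁻¹ * ((u * g * u⁻¹) * x.1) * u := by rw [this]
      _ = g * (u⁻¹ * x.1 * u) := by group
  · have := mem_cent.1 x.2
    rw [mem_cent]
    calc u * x.1 * u⁻¹ * (u * g * u⁻¹) = u * (x.1 * g) * u⁻¹ := by group
      _ = u * (g * x.1) * u⁻¹ := by rw [this]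
      _ = u * g * u⁻¹ * (u * x.1 * u⁻¹) := by group
  · apply Subtype.ext
    change u * (u⁻¹ * x.1 * u) * u⁻¹ = x.1
    group
  · apply Subtype.ext
    change u⁻¹ * (u * x.1 * u⁻¹) * u = x.1
    group

variable [Finite G]

/-- **The class equation**: if the order of the centralizer of every noncentral element divides `D ∣ |G|`, then
`|G|` divides `D |Z(G)|`. -/
theorem card_dvd_of_cent {D : ℕ} (hD : D ∣ Nat.card G)
    (h : ∀ g : G, g ∉ center G → Nat.card (centralizer ({g} : Set G)) ∣ D) :
    Nat.card G ∣ D * Nat.card (center G) := by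
  obtain ⟨m, hm⟩ := hD
  have hD0 : D ≠ 0 := by
    rintro rfl
    rw [Nat.zero_mul] at hm
    exact Nat.card_pos.ne' hm
  -- `m` divides every noncentral class
  have h1 : ∀ x ∈ ConjClasses.noncenter G, m ∣ Nat.card x.carrier := by
    intro x hx
    obtain ⟨g, rfl⟩ := ConjClasses.exists_rep x
    have hg : g ∉ center G := by
      intro hg
      rw [ConjClasses.mem_noncenter] at hx
      obtain ⟨a, ha, b, hb, hab⟩ := hx
      apply hab
      have key : ∀ c ∈ (ConjClasses.mk g).carrier, c = g := by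
        intro c hc
        rw [ConjClasses.mem_carrier_iff_mk_eq, ConjClasses.mk_eq_mk_iff_isConj] at hc
        obtain ⟨u, hu⟩ := isConj_iff.1 hc.symm
        rw [← hu, mem_center_iff.1 hg u, mul_assoc, mul_inv_cancel, mul_one]
      rw [key a ha, key b hb]
    have h2 := SmallSimple.SelfCentPrime.card_carrier_mul_card_centralizer g
    obtain ⟨k, hk⟩ := h g hg
    rw [hm, hk] at h2
    have hc0 : Nat.card (centralizer ({g} : Set G)) ≠ 0 := Nat.card_pos.ne'
    refine ⟨k, ?_⟩
    apply Nat.eq_of_mul_eq_mul_right (Nat.pos_of_ne_zero hc0)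
    rw [h2]
    ring
  have h2 := Group.nat_card_center_add_sum_card_noncenter_eq_card G
  have h3 : m ∣ ∑ᶠ x ∈ ConjClasses.noncenter G, Nat.card x.carrier := by
    rw [finsum_mem_eq_finite_toFinset_sum _ (Set.toFinite _)]
    apply Finset.dvd_sum
    intro x hx
    exact h1 x ((Set.Finite.mem_toFinset _).1 hx)
  have h4 : m ∣ Nat.card (center G) := by
    have h5 : m ∣ Nat.card G := ⟨D, by rw [hm, mul_comm]⟩
    rw [← h2] at h5
    exact (Nat.dvd_add_left h3).1 h5
  rw [hm]
  exact Nat.mul_dvd_mul_left D h4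

end

section

variable {G : Type*} [Group G] [Finite G] {p : ℕ} [hp : Fact p.Prime]

omit [Finite G] in
/-- in a group of order not divisible by `p ^ 2`, commuting elements of order `p` generate the same subgroup -/
theorem mem_zpowers_of_commute (hp2 : ¬ p ^ 2 ∣ Nat.card G) {x y : G} (hx : orderOf x = p) (hy : orderOf y = p)
    (hxy : x * y = y * x) : y ∈ zpowers x := by
  by_contra hne
  apply hp2
  -- the product map is injective
  let f : zpowers x × zpowers y →* G :=
    (zpowers x).subtype.noncommCoprod (zpowers y).subtype (by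
      rintro ⟨a, ha⟩ ⟨b, hb⟩
      obtain ⟨i, rfl⟩ := mem_zpowers_iff.1 ha
      obtain ⟨j, rfl⟩ := mem_zpowers_iff.1 hb
      exact (Commute.zpow_zpow (show Commute x y from hxy) i j))
  have hinj : Function.Injective f := by
    rw [injective_iff_map_eq_one]
    rintro ⟨⟨a, ha⟩, ⟨b, hb⟩⟩ hab
    have hab' : a * b = 1 := hab
    have hb1 : b = 1 := by
      by_contra hb1
      have hbx : b ∈ zpowers x := by
        rw [eq_inv_of_mul_eq_one_right hab']
        exact inv_mem ha
      have h1 := SmallSimple.SelfCentPrime.zpowers_eq_of_mem hx hbx hb1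
      have h2 := SmallSimple.SelfCentPrime.zpowers_eq_of_mem hy hb hb1
      apply hne
      rw [← h1, h2]
      exact mem_zpowers y
    subst hb1
    have ha1 : a = 1 := by simpa using hab'
    subst ha1
    rfl
  have h1 := Subgroup.card_dvd_of_injective f hinj
  rwa [Nat.card_prod, Nat.card_zpowers, Nat.card_zpowers, hx, hy, ← pow_two] at h1

/-- a conjugate of `y` of order `p` generates the group of `x` -/
theorem exists_conj (hp2 : ¬ p ^ 2 ∣ Nat.card G) {x y : G} (hx : orderOf x = p) (hy : orderOf y = p) :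
    ∃ u : G, x ∈ zpowers (u * y * u⁻¹) := by
  have hcard : ∀ z : G, orderOf z = p → (Nat.card G).factorization p = 1 := by
    intro z hz
    have h1 : p ∣ Nat.card G := hz ▸ orderOf_dvd_natCard z
    have h2 : 1 ≤ (Nat.card G).factorization p := (hp.out.dvd_iff_one_le_factorization Nat.card_pos.ne').1 h1
    have h3 : ¬ 2 ≤ (Nat.card G).factorization p := fun h =>
      hp2 ((hp.out.pow_dvd_iff_le_factorization Nat.card_pos.ne').2 h)
    omega
  have h1 := hcard x hx
  let P : Sylow p G := Sylow.ofCard (zpowers x) (by rw [Nat.card_zpowers, hx, h1, pow_one])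
  let Q : Sylow p G := Sylow.ofCard (zpowers y) (by rw [Nat.card_zpowers, hy, h1, pow_one])
  obtain ⟨u, hu⟩ := MulAction.exists_smul_eq G Q P
  refine ⟨u, ?_⟩
  have hxP : x ∈ (P : Subgroup G) := by
    change x ∈ zpowers x
    exact mem_zpowers x
  rw [← hu] at hxP
  rw [Sylow.coe_subgroup_smul] at hxP
  obtain ⟨z, hz, hzx⟩ := hxP
  have hz' : z ∈ zpowers y := hz
  obtain ⟨i, rfl⟩ := mem_zpowers_iff.1 hz'
  rw [mem_zpowers_iff]
  refine ⟨i, ?_⟩
  rw [← hzx]
  change (u * y * u⁻¹) ^ i = u * y ^ i * u⁻¹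
  rw [conj_zpow]

/-- the elements of the centralizer `C` of an element `x` of order `p` -/
theorem exists_gen (hp2 : ¬ p ^ 2 ∣ Nat.card G) {x : G} (hx : orderOf x = p) (k : G) (hk : k * x = x * k) :
    ∃ j : G, (∀ c : G, c * j = j * c ↔ (c * x = x * c ∧ c * k = k * c)) := by
  -- `j = k` or `j = k * x`
  by_cases hpk : p ∣ orderOf k
  · -- `x` is a power of `k`
    have h0 : orderOf k ≠ 0 := (orderOf_pos k).ne'
    obtain ⟨m, hm⟩ := hpk
    have hm0 : m ≠ 0 := by
      rintro rfl
      rw [mul_zero] at hm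
      exact h0 hm
    have hkm : orderOf (k ^ m) = p := by
      rw [orderOf_pow_of_dvd hm0 ⟨p, by rw [hm, mul_comm]⟩, hm]
      exact Nat.mul_div_cancel p (Nat.pos_of_ne_zero hm0)
    have hc : k ^ m * x = x * k ^ m := (show Commute k x from hk).pow_left m
    have h1 := mem_zpowers_of_commute hp2 hkm hx hc
    obtain ⟨i, hi⟩ := mem_zpowers_iff.1 h1
    refine ⟨k, fun c => ⟨fun h => ⟨?_, h⟩, fun h => h.2⟩⟩
    rw [← hi]
    exact ((show Commute c k from h).pow_right m).zpow_right i
  · -- coprime orders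
    have hcop : Nat.Coprime (orderOf k) (orderOf x) := by
      rw [hx]
      exact ((Nat.Prime.coprime_iff_not_dvd hp.out).2 hpk).symm
    refine ⟨k * x, fun c => ⟨fun h => ?_, fun h => ?_⟩⟩
    · -- powers of `k * x`
      have hkx : Commute k x := hk
      have h1 : (k * x) ^ orderOf k = x ^ orderOf k := by
        rw [hkx.mul_pow, pow_orderOf_eq_one, one_mul]
      have h2 : Commute c (x ^ orderOf k) := by
        rw [← h1]
        exact (show Commute c (k * x) from h).pow_right _
      obtain ⟨i, hi⟩ := Nat.exists_mul_mod_eq_one_of_coprime hcop (by rw [hx]; exact hp.out.one_lt)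
      have h3 : Commute c x := by
        have h4 : (x ^ orderOf k) ^ i = x := by
          rw [← pow_mul, ← pow_mod_orderOf, hi.2, pow_one]
        rw [← h4]
        exact h2.pow_right i
      refine ⟨h3, ?_⟩
      have h5 : Commute c (k * x * x⁻¹) := (show Commute c (k * x) from h).mul_right h3.inv_right
      rwa [mul_inv_cancel_right] at h5
    · exact (show Commute c k from h.2).mul_right (show Commute c x from h.1)

/-- **The type lemma.** -/
theorem type_lemma {L : List ℕ} (h : CSet G L) (hp2 : ¬ p ^ 2 ∣ Nat.card G) {x : G} (hx : orderOf x = p) {D g0 : ℕ}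
    (hDc : D ∣ co x) (hD : ∀ c ∈ L, p ∣ c → c ∣ co x → c ≠ co x → c ∣ D)
    (hg0 : ∀ z, (∀ c ∈ L, p ∣ c → z ∣ c) → z ∣ g0) : co x ∣ D * g0 := by
  -- the centralizer orders in `C`
  have fact1 : ∀ k : centralizer ({x} : Set G), ∃ j : G,
      Nat.card (centralizer ({k} : Set (centralizer ({x} : Set G)))) = co j ∧ p ∣ co j ∧ co j ∣ co x := by
    intro k
    obtain ⟨j, hj⟩ := exists_gen hp2 hx (k : G) (mem_cent.1 k.2)
    have hle : centralizer ({j} : Set G) ≤ centralizer ({x} : Set G) := fun c hc =>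
      mem_cent.2 ((hj c).1 (mem_cent.1 hc)).1
    refine ⟨j, ?_, ?_, Subgroup.card_dvd_of_le hle⟩
    · apply Nat.card_congr
      refine ⟨fun c => ⟨c.1.1, ?_⟩, fun c => ⟨⟨c.1, hle c.2⟩, ?_⟩, fun c => rfl, fun c => rfl⟩
      · rw [mem_cent, hj]
        exact ⟨mem_cent.1 c.1.2, congrArg Subtype.val (mem_cent.1 c.2)⟩
      · rw [mem_cent]
        exact Subtype.ext ((hj c.1).1 (mem_cent.1 c.2)).2
    · have h1 : x ∈ centralizer ({j} : Set G) := by
        rw [mem_cent, hj]
        exact ⟨rfl, (mem_cent.1 k.2).symm⟩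
      have h2 : orderOf (⟨x, h1⟩ : centralizer ({j} : Set G)) = p := by
        rw [← Subgroup.orderOf_coe]
        exact hx
      rw [← h2]
      exact orderOf_dvd_natCard _
  -- elements of `C` with small centralizers
  have fact2 : ∀ c ∈ L, p ∣ c → ∃ k : centralizer ({x} : Set G),
      Nat.card (centralizer ({k} : Set (centralizer ({x} : Set G)))) ∣ c := by
    intro c hc hpc
    obtain ⟨g, hg⟩ := h.ex c hc
    rw [← hg] at hpc
    obtain ⟨y, hy⟩ := exists_prime_orderOf_dvd_card' p hpc
    have hy' : orderOf (y : G) = p := by rw [Subgroup.orderOf_coe, hy]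
    obtain ⟨u, hu⟩ := exists_conj hp2 hx hy'
    have hyg := mem_cent.1 y.2
    have hk : u * g * u⁻¹ ∈ centralizer ({x} : Set G) := by
      rw [mem_cent]
      obtain ⟨i, hi⟩ := mem_zpowers_iff.1 hu
      rw [← hi]
      have : Commute (u * g * u⁻¹) (u * (y : G) * u⁻¹) := by
        change u * g * u⁻¹ * (u * (y : G) * u⁻¹) = u * (y : G) * u⁻¹ * (u * g * u⁻¹)
        calc u * g * u⁻¹ * (u * (y : G) * u⁻¹) = u * (g * (y : G)) * u⁻¹ := by group
          _ = u * ((y : G) * g) * u⁻¹ := by rw [hyg]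
          _ = u * (y : G) * u⁻¹ * (u * g * u⁻¹) := by group
      exact this.zpow_right i
    refine ⟨⟨_, hk⟩, ?_⟩
    rw [← hg, ← co_conj g u]
    apply Subgroup.card_dvd_of_injective
      (((centralizer ({x} : Set G)).subtype.comp (centralizer
        ({(⟨_, hk⟩ : centralizer ({x} : Set G))} : Set (centralizer ({x} : Set G)))).subtype).codRestrict
          (centralizer ({u * g * u⁻¹} : Set G)) ?_)
    · intro a b hab
      have e : (a.1.1 : G) = b.1.1 := congrArg (fun z : centralizer ({u * g * u⁻¹} : Set G) => (z : G)) hab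
      exact Subtype.ext (Subtype.ext e)
    · intro a
      rw [mem_cent]
      exact congrArg Subtype.val (mem_cent.1 a.2)
  have h1 : Nat.card (centralizer ({x} : Set G)) ∣ D * Nat.card (center (centralizer ({x} : Set G))) := by
    apply card_dvd_of_cent hDc
    intro k hk
    obtain ⟨j, hj, hpj, hjx⟩ := fact1 k
    rw [hj]
    refine hD _ (h.mem j) hpj hjx ?_
    intro heq
    apply hk
    rw [← hj] at heq
    have h2 : centralizer ({k} : Set (centralizer ({x} : Set G))) = ⊤ :=
      Subgroup.eq_top_of_card_eq _ heq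
    rw [mem_center_iff]
    intro g
    have h3 : g ∈ centralizer ({k} : Set (centralizer ({x} : Set G))) := by rw [h2]; exact mem_top g
    exact (mem_cent.1 h3)
  have h2 : Nat.card (center (centralizer ({x} : Set G))) ∣ g0 := by
    apply hg0
    intro c hc hpc
    obtain ⟨k, hk⟩ := fact2 c hc hpc
    exact (center_dvd k).trans hk
  exact h1.trans (Nat.mul_dvd_mul_left D h2)

end

end Cfsg.Agent.H367.ClsGrp
end

-- part: H367/ClsSmall
section
/-!
# Small degrees: the simple section (helper367)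

`check` : a computable certificate; `exists_sec` : the consequence.
-/

set_option autoImplicit false

namespace Cfsg.Agent.H367.ClsSmall

open Cfsg Cfsg.Agent.OrdDiv Cfsg.Agent.H357.Reduce Cfsg.Agent.H363.Frat Cfsg.Agent.H363.AltPrimes
open Cfsg.Agent.H367.ClsGrp Subgroup

universe u

/-! ### folds -/

theorem dvd_foldr_gcd {z : ℕ} : ∀ {L : List ℕ}, (∀ c ∈ L, z ∣ c) → z ∣ L.foldr Nat.gcd 0
  | [], _ => dvd_zero z
  | c :: L, h => Nat.dvd_gcd (h c List.mem_cons_self) (dvd_foldr_gcd fun d hd => h d (List.mem_cons_of_mem _ hd))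

theorem foldr_lcm_dvd {z : ℕ} : ∀ {L : List ℕ}, (∀ c ∈ L, c ∣ z) → L.foldr Nat.lcm 1 ∣ z
  | [], _ => one_dvd z
  | c :: L, h => Nat.lcm_dvd (h c List.mem_cons_self) (foldr_lcm_dvd fun d hd => h d (List.mem_cons_of_mem _ hd))

theorem dvd_foldr_lcm {c : ℕ} : ∀ {L : List ℕ}, c ∈ L → c ∣ L.foldr Nat.lcm 1
  | [], h => absurd h List.not_mem_nil
  | d :: L, h => by
    rcases List.mem_cons.1 h with h | h
    · subst h
      exact Nat.dvd_lcm_left _ _
    · exact (dvd_foldr_lcm h).trans (Nat.dvd_lcm_right _ _)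

/-! ### the certificate -/

def dval (L : List ℕ) (p c0 : ℕ) : ℕ :=
  (L.filter fun c => c % p == 0 && c0 % c == 0 && !(c == c0)).foldr Nat.lcm 1

def gval (L : List ℕ) (p : ℕ) : ℕ := (L.filter fun c => c % p == 0).foldr Nat.gcd 0

def typeOk (L : List ℕ) (p N : ℕ) (B : List ℕ) : Bool := L.all fun c0 =>
  !(c0 % p == 0) || c0 == N || B.contains c0 || !((dval L p c0 * gval L p) % c0 == 0)

/-- `(s, v, c)` : `s ^ v ∥ N`, `s` not adjacent to `p`, ... -/
def condOk (N p : ℕ) (B : List ℕ) (x : ℕ × ℕ × ℕ) : Bool :=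
  isPrimeB x.1 && !(x.1 == p) && N % x.1 ^ x.2.1 == 0 && !(N % x.1 ^ (x.2.1 + 1) == 0) &&
    ((List.range (if x.1 == 2 then x.2.1 - 1 else x.2.1)).all fun a => !((x.1 ^ (a + 1) - 1) % p == 0)) &&
    !((p - 1) % x.1 ^ (x.2.2 + 1) == 0) && B.all fun b => !(b % x.1 == 0)

def check (L : List ℕ) (N p : ℕ) (B : List ℕ) (l : List (ℕ × ℕ)) (conds : List (ℕ × ℕ × ℕ)) (out : List Grp) : Bool :=
  (L.foldr Nat.gcd 0 == 1) && typeOk L p N B && (N % p == 0) && !(N % p ^ 2 == 0) && isPrimeB p && valid l N &&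
    conds.all (condOk N p B) && (conds.any fun x => Nat.blt x.2.2 x.2.1 && !(x.1 == 2)) &&
    ((cands l N).all fun g => ordN g % 2 == 0) &&
    (cands l N).all fun g => !(ordN g % p == 0 && conds.all fun x => ordN g % x.1 ^ (x.2.1 - x.2.2) == 0) ||
      out.contains g

section

variable {G : Type*} [Group G] [Finite G]

theorem center_eq_bot {L : List ℕ} (h : CSet G L) (hg : L.foldr Nat.gcd 0 = 1) : center G = ⊥ := by
  apply Subgroup.card_eq_one.1
  rw [← Nat.dvd_one, ← hg]
  apply dvd_foldr_gcd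
  intro c hc
  obtain ⟨g, rfl⟩ := h.ex c hc
  exact center_dvd g

theorem co_mem {L : List ℕ} (h : CSet G L) (hg : L.foldr Nat.gcd 0 = 1) {p : ℕ} (hp : p.Prime)
    (hp2 : ¬ p ^ 2 ∣ Nat.card G) {B : List ℕ} (hB : typeOk L p (Nat.card G) B = true) {x : G} (hx : orderOf x = p) :
    co x ∈ B := by
  have : Fact p.Prime := ⟨hp⟩
  unfold typeOk at hB
  rw [List.all_eq_true] at hB
  have h1 := hB _ (h.mem x)
  simp only [Bool.or_eq_true, Bool.not_eq_true', beq_eq_false_iff_ne, beq_iff_eq, List.contains_iff_mem] at h1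
  have hpx : p ∣ co x := by
    have h2 : x ∈ centralizer ({x} : Set G) := mem_cent.2 rfl
    have h3 : orderOf (⟨x, h2⟩ : centralizer ({x} : Set G)) = p := by
      rw [← Subgroup.orderOf_coe]
      exact hx
    rw [← h3]
    exact orderOf_dvd_natCard _
  rcases h1 with ((h1 | h1) | h1) | h1
  · exact absurd (Nat.mod_eq_zero_of_dvd hpx) h1
  · exfalso
    have h2 : centralizer ({x} : Set G) = ⊤ := Subgroup.eq_top_of_card_eq _ h1
    have h3 : x ∈ center G := by
      rw [mem_center_iff]
      intro g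
      have h3 : g ∈ centralizer ({x} : Set G) := by rw [h2]; exact mem_top g
      exact mem_cent.1 h3
    rw [center_eq_bot h hg, mem_bot] at h3
    rw [h3, orderOf_one] at hx
    exact hp.one_lt.ne hx
  · exact h1
  · exfalso
    apply h1
    apply Nat.mod_eq_zero_of_dvd
    apply type_lemma h hp2 hx (D := dval L p (co x)) (g0 := gval L p)
    · apply foldr_lcm_dvd
      intro c hc
      rw [List.mem_filter] at hc
      simp only [Bool.and_eq_true, beq_iff_eq] at hc
      exact Nat.dvd_of_mod_eq_zero hc.2.1.2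
    · intro c hc hpc hcx hne
      apply dvd_foldr_lcm
      rw [List.mem_filter]
      refine ⟨hc, ?_⟩
      simp only [Bool.and_eq_true, beq_iff_eq, Bool.not_eq_true', beq_eq_false_iff_ne]
      exact ⟨⟨Nat.mod_eq_zero_of_dvd hpc, Nat.mod_eq_zero_of_dvd hcx⟩, hne⟩
    · intro z hz
      apply dvd_foldr_gcd
      intro c hc
      rw [List.mem_filter] at hc
      simp only [beq_iff_eq] at hc
      exact hz c hc.1 (Nat.dvd_of_mod_eq_zero hc.2)

theorem nonAdj_of {p s : ℕ} (hp : p.Prime) (hs : s.Prime) {B : List ℕ} (hB : ∀ x : G, orderOf x = p → co x ∈ B)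
    (hsB : ∀ b ∈ B, ¬ s ∣ b) : NonAdj G p s := by
  intro g hg
  have h1 : orderOf (g ^ s) = p := by
    rw [orderOf_pow_of_dvd hs.ne_zero ⟨p, by rw [hg, mul_comm]⟩, hg]
    exact Nat.mul_div_cancel p hs.pos
  apply hsB _ (hB _ h1)
  have h2 : g ∈ centralizer ({g ^ s} : Set G) := mem_cent.2 ((Commute.refl g).pow_right s)
  have h3 : s ∣ orderOf (⟨g, h2⟩ : centralizer ({g ^ s} : Set G)) := by
    rw [← Subgroup.orderOf_coe]
    change s ∣ orderOf g
    rw [hg]
    exact dvd_mul_left s p
  exact h3.trans (orderOf_dvd_natCard _)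

end

/-- **The simple section.** -/
theorem exists_sec (T : OrderTable.{u}) {G : Type u} [Group G] [Finite G]
    (hcl : ∀ (S : Type u) [Group S] [Finite S] [IsSimpleGroup S], IsKnownSimple' S)
    {L : List ℕ} (h : CSet G L) {p : ℕ} {B : List ℕ} {l : List (ℕ × ℕ)} {conds : List (ℕ × ℕ × ℕ)} {out : List Grp}
    (hc : check L (Nat.card G) p B l conds out = true) :
    center G = ⊥ ∧ p.Prime ∧ (∀ x : G, orderOf x = p → co x ∈ B) ∧
      ∃ (N : Subgroup G) (_ : N.Normal) (M : Subgroup (G ⧸ N)), Sec G p N M ∧ (¬ ∀ a b : M, a * b = b * a) ∧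
        ∃ g ∈ out, Real g M ∧ Nat.card M = ordN g := by
  unfold check at hc
  simp only [Bool.and_eq_true, beq_iff_eq] at hc
  obtain ⟨⟨⟨⟨⟨⟨⟨⟨⟨hgcd, htype⟩, hpG⟩, hp2⟩, hpp⟩, hv⟩, hconds⟩, hany⟩, heven⟩, hout⟩ := hc
  have hp := prime_of hpp
  have hpG := Nat.dvd_of_mod_eq_zero hpG
  have hp2 : ¬ p ^ 2 ∣ Nat.card G := by
    intro h
    rw [Nat.mod_eq_zero_of_dvd h] at hp2
    exact absurd hp2 (by decide)
  have hB : ∀ x : G, orderOf x = p → co x ∈ B := fun x hx => co_mem h hgcd hp hp2 htype hx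
  refine ⟨center_eq_bot h hgcd, hp, hB, ?_⟩
  obtain ⟨N, hN, M, D⟩ := exists_section hp hpG hp2
  refine ⟨N, hN, M, D, ?_⟩
  have hMs := D.simple
  rw [List.all_eq_true] at hconds heven hout
  -- the conditions
  have key : ∀ x ∈ conds, (x.1 = 2 → 2 ∣ Nat.card M) →
      x.1.Prime ∧ (Nat.card G).factorization x.1 = x.2.1 ∧ x.1 ≠ p ∧
        x.2.1 ≤ (Nat.card M).factorization x.1 + x.2.2 := by
    intro x hx h2M
    have hx1 := hconds x hx
    unfold condOk at hx1
    simp only [Bool.and_eq_true, beq_iff_eq, Bool.not_eq_true', beq_eq_false_iff_ne, List.all_eq_true] at hx1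
    obtain ⟨⟨⟨⟨⟨⟨h1, h2⟩, h3⟩, h4⟩, h5⟩, h6⟩, h7⟩ := hx1
    have hs := prime_of h1
    have hna : NonAdj G p x.1 := nonAdj_of hp hs hB fun b hb hd => h7 b hb (Nat.mod_eq_zero_of_dvd hd)
    have hf : (Nat.card G).factorization x.1 = x.2.1 := by
      have h8 := (hs.pow_dvd_iff_le_factorization Nat.card_pos.ne').1 (Nat.dvd_of_mod_eq_zero h3)
      have h9 : ¬ x.2.1 + 1 ≤ (Nat.card G).factorization x.1 := fun h =>
        h4 (Nat.mod_eq_zero_of_dvd ((hs.pow_dvd_iff_le_factorization Nat.card_pos.ne').2 h))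
      omega
    have hno : ∀ a, 1 ≤ a → a ≤ (if x.1 = 2 then x.2.1 - 1 else x.2.1) → ¬ p ∣ x.1 ^ a - 1 := by
      intro a ha1 ha2 hd
      have := h5 (a - 1) (List.mem_range.2 (by split_ifs at ha2 ⊢ <;> omega))
      rw [Nat.sub_add_cancel ha1] at this
      exact this (Nat.mod_eq_zero_of_dvd hd)
    refine ⟨hs, hf, h2, ?_⟩
    have h8 := fact_add N M x.1
    have h9 : (Nat.card N).factorization x.1 = 0 := by
      by_contra h0
      have h10 := D.dvd_pow_sub_one hp hs (Ne.symm h2) hna
      refine hno _ (by omega) ?_ h10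
      split_ifs with h11
      · have h12 : 1 ≤ (Nat.card M).factorization x.1 := by
          rw [h11]
          exact (Nat.prime_two.dvd_iff_one_le_factorization Nat.card_pos.ne').1 (h2M h11)
        omega
      · omega
    have h10 : M.index.factorization x.1 ≤ x.2.2 := by
      by_contra hlt
      have := D.pow_dvd_sub_one hp hs (Ne.symm h2) hna
      exact h6 (Nat.mod_eq_zero_of_dvd ((pow_dvd_pow x.1 (by omega)).trans this))
    omega
  -- `M` is not abelian
  have hnab : ¬ ∀ a b : M, a * b = b * a := by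
    intro hab
    rw [List.any_eq_true] at hany
    obtain ⟨x, hx, hx1⟩ := hany
    simp only [Bool.and_eq_true, Nat.blt_eq, Bool.not_eq_true', beq_eq_false_iff_ne] at hx1
    obtain ⟨hs, hf, hne, hle⟩ := key x hx fun h => absurd h hx1.2
    have : Std.Commutative (α := M) (· * ·) := ⟨hab⟩
    have hpM : Nat.card M = p := by
      letI : CommGroup M := { (inferInstance : Group M) with mul_comm := hab }
      have hprime : (Nat.card M).Prime := IsSimpleGroup.prime_card
      exact ((Nat.prime_dvd_prime_iff_eq hp hprime).1 D.dvdM).symm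
    rw [hpM, hp.factorization, Finsupp.single_eq_of_ne hne] at hle
    omega
  refine ⟨hnab, ?_⟩
  have hdM : Nat.card M ∣ Nat.card G := card_dvd_card N M
  obtain ⟨g, hg, hr, ho⟩ := exists_good T (hcl M) hnab hv hdM
  have h2M : 2 ∣ Nat.card M := by
    rw [ho]
    exact Nat.dvd_of_mod_eq_zero (by simpa using heven g hg)
  refine ⟨g, ?_, hr, ho⟩
  have h1 := hout g hg
  rw [Bool.or_eq_true] at h1
  rcases h1 with h1 | h1
  · exfalso
    rw [Bool.not_eq_true', ← Bool.not_eq_true] at h1
    apply h1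
    rw [Bool.and_eq_true, beq_iff_eq, List.all_eq_true, ← ho]
    refine ⟨Nat.mod_eq_zero_of_dvd D.dvdM, fun x hx => ?_⟩
    obtain ⟨hs, hf, hne, hle⟩ := key x hx fun _ => h2M
    rw [beq_iff_eq]
    apply Nat.mod_eq_zero_of_dvd
    rw [hs.pow_dvd_iff_le_factorization Nat.card_pos.ne']
    omega
  · exact List.contains_iff_mem.1 h1

end Cfsg.Agent.H367.ClsSmall
end

-- part: H367/ClsFin
section
/-!
# From the simple section to the group (helper367)
-/

set_option autoImplicit false

namespace Cfsg.Agent.H367.ClsFin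

open Cfsg Cfsg.Agent.OrdDiv Cfsg.Agent.H357.Reduce Cfsg.Agent.H363.Frat Cfsg.Agent.H363.AltPrimes
open Cfsg.Agent.H367.ClsGrp Subgroup

section

variable {G : Type*} [Group G] [Finite G]

/-- a normal subgroup of order two is central -/
theorem le_center_of_two (N : Subgroup G) [N.Normal] (h2 : Nat.card N = 2) : N ≤ center G := by
  intro z hz
  rw [mem_center_iff]
  intro g
  by_cases hz1 : z = 1
  · rw [hz1, mul_one, one_mul]
  · have h4 : g * z * g⁻¹ ∈ N := ‹N.Normal›.conj_mem z hz g
    have h5 : g * z * g⁻¹ ≠ 1 := by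
      intro h6
      apply hz1
      have : z = g⁻¹ * (g * z * g⁻¹) * g := by group
      rw [this, h6]
      group
    have h6 : ∀ a ∈ N, a ≠ 1 → a = z := by
      intro a ha ha1
      by_contra hne
      have h7 : ({1, z, a} : Set G) ⊆ N := by
        rintro y (rfl | rfl | rfl)
        · exact one_mem N
        · exact hz
        · exact ha
      have h8 := Set.ncard_le_ncard h7 (Set.toFinite _)
      rw [Set.ncard_eq_three.mpr ⟨1, z, a, Ne.symm hz1, Ne.symm ha1, Ne.symm hne, rfl⟩] at h8
      have h9 : (N : Set G).ncard = Nat.card N := (Nat.card_coe_set_eq _).symm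
      omega
    have h7 := h6 _ h4 h5
    calc g * z = g * z * g⁻¹ * g := by group
      _ = z * g := by rw [h7]

theorem fin_eq {n : ℕ} {N : Subgroup G} [N.Normal] {M : Subgroup (G ⧸ N)} (hZ : center G = ⊥)
    (hcard : Nat.card G = n.factorial ∨ 2 * Nat.card G = n.factorial)
    (e : M ≃* alternatingGroup (Fin n)) (hm : 2 * Nat.card M = n.factorial)
    (hΘ : Nat.card G = n.factorial → ∃ Θ : (G ⧸ N) →* Equiv.Perm (Fin n), Function.Injective Θ) :
    Nonempty (G ≃* Equiv.Perm (Fin n)) ∨ Nonempty (G ≃* alternatingGroup (Fin n)) := by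
  have hcardG := card_eq N M
  have hMpos : 0 < Nat.card M := Nat.card_pos
  have hbot : Nat.card N = 1 → N = ⊥ := fun h1 => Subgroup.card_eq_one.mp h1
  rcases hcard with h1 | h1
  · left
    obtain ⟨Θ, hΘ⟩ := hΘ h1
    have h2 : Nat.card N * M.index = 2 := by
      rw [hcardG, ← hm] at h1
      apply Nat.eq_of_mul_eq_mul_right hMpos
      rw [← h1]
      ring
    have hidx : M.index ∣ 2 := ⟨Nat.card N, by rw [← h2, mul_comm]⟩
    rcases (Nat.dvd_prime Nat.prime_two).1 hidx with h3 | h3
    · -- `|N| = 2`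
      exfalso
      rw [h3, mul_one] at h2
      have h4 := le_center_of_two N h2
      rw [hZ, le_bot_iff] at h4
      rw [h4, Subgroup.card_bot] at h2
      omega
    · -- `|G / N : M| = 2`
      rw [h3] at h2
      have hN1 : Nat.card N = 1 := by omega
      have hbij : Function.Bijective Θ := by
        rw [Nat.bijective_iff_injective_and_card]
        refine ⟨hΘ, ?_⟩
        rw [Nat.card_eq_fintype_card (α := Equiv.Perm (Fin n)), Fintype.card_perm, Fintype.card_fin,
          ← M.card_mul_index, h3, ← hm, mul_comm]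
      exact ⟨(equivOf N (hbot hN1)).trans (MulEquiv.ofBijective Θ hbij)⟩
  · right
    have h2 : Nat.card N * M.index = 1 := by
      rw [hcardG, ← hm] at h1
      have h3 := Nat.eq_of_mul_eq_mul_left (show 0 < 2 by norm_num) h1
      apply Nat.eq_of_mul_eq_mul_right hMpos
      calc Nat.card N * M.index * Nat.card M = Nat.card N * (Nat.card M * M.index) := by ring
        _ = 1 * Nat.card M := by rw [h3, one_mul]
    have hN1 : Nat.card N = 1 := Nat.eq_one_of_mul_eq_one_right h2
    have hI1 : M.index = 1 := Nat.eq_one_of_mul_eq_one_left h2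
    have htop : M = ⊤ := Subgroup.index_eq_one.mp hI1
    have hsub : Function.Bijective M.subtype := by
      refine ⟨M.subtype_injective, ?_⟩
      intro x
      exact ⟨⟨x, by rw [htop]; exact mem_top x⟩, rfl⟩
    exact ⟨(equivOf N (hbot hN1)).trans ((MulEquiv.ofBijective M.subtype hsub).symm.trans e)⟩

/-- degree eight, section `A_7` -/
theorem false_seven {N : Subgroup G} [N.Normal] {M : Subgroup (G ⧸ N)} (D : Data G 8 N M)
    (hcard : Nat.card G = 40320 ∨ Nat.card G = 20160) (hco : ∀ x : G, orderOf x = 7 → co x = 7)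
    (e : M ≃* alternatingGroup (Fin 7)) : False := by
  have hm : Nat.card M = 2520 := by
    have h1 := Cfsg.Agent.H363.AltPrimes.card_alternating (n := 7) (by norm_num)
    rw [← Nat.card_congr e.toEquiv, show Nat.factorial 7 = 5040 by rfl] at h1
    omega
  have hc := card_eq N M
  rw [hm] at hc
  -- the index
  obtain ⟨Θ, hΘ⟩ := D.exists_hom (m := 7) le_rfl e
  have hK := Subgroup.card_dvd_of_injective Θ hΘ
  rw [Nat.card_eq_fintype_card (α := Equiv.Perm (Fin 7)), Fintype.card_perm, Fintype.card_fin,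
    ← M.card_mul_index, hm, show Nat.factorial 7 = 2520 * 2 by rfl] at hK
  have hidx : M.index ∣ 2 := Nat.dvd_of_mul_dvd_mul_left (by norm_num) hK
  have hNi : Nat.card N * M.index = 16 ∨ Nat.card N * M.index = 8 := by
    have e1 : Nat.card G = 2520 * (Nat.card N * M.index) := by rw [hc]; ring
    rcases hcard with h1 | h1
    · left
      omega
    · right
      omega
  obtain ⟨a, ha1, ha2, ha⟩ : ∃ a, 2 ≤ a ∧ a ≤ 4 ∧ Nat.card N = 2 ^ a := by
    rcases (Nat.dvd_prime Nat.prime_two).1 hidx with h3 | h3 <;> rw [h3] at hNi <;> rcases hNi with h4 | h4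
    · exact ⟨4, by norm_num, by norm_num, by omega⟩
    · exact ⟨3, by norm_num, by norm_num, by omega⟩
    · exact ⟨3, by norm_num, by norm_num, by omega⟩
    · exact ⟨2, by norm_num, by norm_num, by omega⟩
  have hfa : (Nat.card N).factorization 2 = a := by
    rw [ha, Nat.Prime.factorization_pow Nat.prime_two]
    simp
  obtain ⟨h3', h5, h7, h11⟩ := nums
  have hidxN : ∀ q : ℕ, q.Prime → 8 < 2 * q → q ≤ 8 → q ∣ N.index := by
    intro q hq h1 h2
    rw [Subgroup.index_eq_card, ← M.card_mul_index]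
    exact (D.primes q hq h1 h2).mul_right _
  have hadj : NonAdj G 7 2 := by
    intro g hg
    have h1 : orderOf (g ^ 2) = 7 := by
      rw [orderOf_pow' _ (by norm_num), hg]
      decide
    have h2 := hco _ h1
    have h3 : g ∈ centralizer ({g ^ 2} : Set G) := mem_cent.2 ((Commute.refl g).pow_right 2)
    have h4 : orderOf (⟨g, h3⟩ : centralizer ({g ^ 2} : Set G)) ∣ co (g ^ 2) := orderOf_dvd_natCard _
    rw [← Subgroup.orderOf_coe, h2] at h4
    change orderOf g ∣ 7 at h4
    rw [hg] at h4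
    revert h4
    decide
  -- seven
  have e7 := pow_dvd_of_normal h7 Nat.prime_two (by norm_num) hadj
    N (k := 1) (by rw [pow_one]; exact hidxN 7 h7 (by norm_num) (by norm_num))
  rw [hfa, pow_one] at e7
  have ha3 : a = 3 := by
    interval_cases a
    · revert e7; decide
    · rfl
    · revert e7; decide
  subst ha3
  -- five
  obtain ⟨S, Q, hSN, hfrat, hcardS, hqQ, hQS⟩ := exists_normalizing' h5 Nat.prime_two N
    (hidxN 5 h5 (by norm_num) (by norm_num))
  obtain ⟨x, hx, hxo⟩ := exists_centralizing h5 Nat.prime_two (by norm_num) hqQ hcardS hQS (by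
    rw [hfa]
    decide)
  have hxN : x ∉ N := by
    intro hxN
    have h6 : orderOf (⟨x, hxN⟩ : N) ∣ Nat.card N := orderOf_dvd_natCard _
    rw [← Subgroup.orderOf_coe] at h6
    change orderOf x ∣ _ at h6
    rw [hxo, ha] at h6
    revert h6
    decide
  have hM := D.le_map_centralizer hfrat hx hxN
  -- an element of order seven centralizing `S`
  have : Fact (Nat.Prime 7) := ⟨h7⟩
  have h7C : 7 ∣ Nat.card (centralizer (S : Set G)) := by
    have h1 : 7 ∣ Nat.card M := D.primes 7 h7 (by norm_num) (by norm_num)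
    have h2 : Nat.card M ∣ Nat.card ((centralizer (S : Set G)).map (QuotientGroup.mk' N)) :=
      Subgroup.card_dvd_of_le hM
    exact (h1.trans h2).trans (Subgroup.card_map_dvd _ _)
  obtain ⟨y, hy⟩ := exists_prime_orderOf_dvd_card' 7 h7C
  have hy' : orderOf (y : G) = 7 := by rw [Subgroup.orderOf_coe, hy]
  have h8 := hco _ hy'
  have h9 : S ≤ centralizer ({(y : G)} : Set G) := by
    intro s hs
    rw [mem_cent]
    exact mem_centralizer_iff.1 y.2 s hs
  have h10 : Nat.card S ∣ co (y : G) := Subgroup.card_dvd_of_le h9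
  rw [h8, hcardS, hfa] at h10
  revert h10
  decide

/-- degree eight, section `PSL(3, 4)` -/
theorem false_psl {N : Subgroup G} [N.Normal] {M : Subgroup (G ⧸ N)}
    (hMn : M.Normal) (hcard : Nat.card G = 40320 ∨ Nat.card G = 20160) (hM : Real (.psl 3 4) M)
    (hm : Nat.card M = 20160) {g : G} (hg : orderOf g = 15) : False := by
  have hc := card_eq N M
  rw [hm] at hc
  have e1 : Nat.card G = 20160 * (Nat.card N * M.index) := by rw [hc]; ring
  have hNi : Nat.card N * M.index ∣ 2 := by
    rcases hcard with h1 | h1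
    · exact ⟨1, by omega⟩
    · exact ⟨2, by omega⟩
  have hN2 : Nat.card N ∣ 2 := (Nat.dvd_mul_right _ _).trans hNi
  have hi2 : M.index ∣ 2 := (Nat.dvd_mul_left _ _).trans hNi
  have hy : (QuotientGroup.mk' N g) ^ 2 ∈ M := by
    have h1 := M.pow_index_mem (QuotientGroup.mk' N g)
    obtain ⟨c, hc⟩ := hi2
    rw [hc, pow_mul]
    exact M.pow_mem h1 c
  -- its order
  have hyo : orderOf (QuotientGroup.mk' N g) = 15 := by
    have h1 : orderOf (QuotientGroup.mk' N g) ∣ 15 := by
      rw [← hg]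
      exact orderOf_map_dvd _ g
    have h2 : g ^ orderOf (QuotientGroup.mk' N g) ∈ N := by
      rw [← QuotientGroup.eq_one_iff]
      change QuotientGroup.mk' N (g ^ orderOf (QuotientGroup.mk' N g)) = 1
      rw [map_pow]
      exact pow_orderOf_eq_one _
    have h3 : (g ^ orderOf (QuotientGroup.mk' N g)) ^ 2 = 1 := by
      obtain ⟨c, hc⟩ := hN2
      rw [hc, pow_mul]
      have h4 : (⟨_, h2⟩ : N) ^ Nat.card N = 1 := pow_card_eq_one'
      have h5 : (g ^ orderOf (QuotientGroup.mk' N g)) ^ Nat.card N = 1 := congrArg Subtype.val h4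
      rw [h5, one_pow]
    rw [← pow_mul] at h3
    have h4 := orderOf_dvd_of_pow_eq_one h3
    rw [hg] at h4
    have h5 : 15 ∣ orderOf (QuotientGroup.mk' N g) :=
      Nat.Coprime.dvd_of_dvd_mul_right (by norm_num) h4
    exact Nat.dvd_antisymm h1 h5
  have hy2 : orderOf (⟨_, hy⟩ : M) = 15 := by
    rw [← Subgroup.orderOf_coe]
    change orderOf ((QuotientGroup.mk' N g) ^ 2) = 15
    rw [orderOf_pow' _ (by norm_num), hyo]
    decide
  obtain ⟨F, _, _, hF, ⟨e⟩⟩ := hM
  apply Cfsg.Agent.S0819.result hF (e ⟨_, hy⟩)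
  rw [MulEquiv.orderOf_eq]
  exact hy2

/-- an element with centralizer order `p q` whose ... has order `p q` -/
theorem exists_order_of_co {p q : ℕ} (hp : p.Prime) (hq : q.Prime) (hpq : p ≠ q) {g : G} (hg : co g = p * q)
    (h1 : g ≠ 1) : ∃ h : G, orderOf h = p * q := by
  have hgm : g ∈ centralizer ({g} : Set G) := mem_cent.2 rfl
  have hd : orderOf g ∣ p * q := by
    have h0 := orderOf_dvd_natCard (⟨g, hgm⟩ : centralizer ({g} : Set G))
    rw [← Subgroup.orderOf_coe] at h0
    rw [← hg]
    exact h0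
  have hne : orderOf g ≠ 1 := fun h => h1 (orderOf_eq_one_iff.1 h)
  have hcop : Nat.Coprime p q := (Nat.coprime_primes hp hq).2 hpq
  have key : ∀ {r s : ℕ}, r.Prime → s.Prime → r ≠ s → r * s = p * q → orderOf g = r → ∃ h : G, orderOf h = p * q := by
    intro r s hr hs hrs hrspq ho
    have : Fact s.Prime := ⟨hs⟩
    have h2 : s ∣ Nat.card (centralizer ({g} : Set G)) := by
      change s ∣ co g
      rw [hg, ← hrspq]
      exact dvd_mul_left s r
    obtain ⟨y, hy⟩ := exists_prime_orderOf_dvd_card' s h2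
    have hy' : orderOf (y : G) = s := by rw [Subgroup.orderOf_coe, hy]
    have hc : Commute g (y : G) := (mem_cent.1 y.2).symm
    refine ⟨g * y, ?_⟩
    rw [hc.orderOf_mul_eq_mul_orderOf_of_coprime (by rw [ho, hy']; exact (Nat.coprime_primes hr hs).2 hrs), ho, hy',
      hrspq]
  obtain ⟨c, hc⟩ := hd
  -- `p` or `q` divides the order
  obtain ⟨r, hr, hrd⟩ := Nat.exists_prime_and_dvd hne
  have hrpq : r ∣ p * q := hrd.trans ⟨c, hc⟩
  have hor : r = p ∨ r = q := by
    rcases hr.dvd_mul.1 hrpq with h | h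
    · exact Or.inl ((Nat.prime_dvd_prime_iff_eq hr hp).1 h)
    · exact Or.inr ((Nat.prime_dvd_prime_iff_eq hr hq).1 h)
  rcases hor with rfl | rfl
  · obtain ⟨d, hd⟩ := hrd
    have h2 : d ∣ q := by
      rw [hd, mul_assoc] at hc
      have := Nat.eq_of_mul_eq_mul_left hr.pos hc
      exact ⟨c, this⟩
    rcases (Nat.dvd_prime hq).1 h2 with h3 | h3
    · rw [h3, mul_one] at hd
      exact key hr hq hpq rfl hd
    · exact ⟨g, by rw [hd, h3]⟩
  · obtain ⟨d, hd⟩ := hrd
    have h2 : d ∣ p := by
      rw [hd, mul_assoc, mul_comm p r] at hc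
      have := Nat.eq_of_mul_eq_mul_left hr.pos hc
      exact ⟨c, this⟩
    rcases (Nat.dvd_prime hp).1 h2 with h3 | h3
    · rw [h3, mul_one] at hd
      exact key hr hp (Ne.symm hpq) (mul_comm _ _) hd
    · exact ⟨g, by rw [hd, h3, mul_comm]⟩

/-- degree ten, the second Janko group -/
theorem false_janko {N : Subgroup G} [N.Normal] {M : Subgroup (G ⧸ N)} (D : Data G 10 N M)
    (hcard : Nat.card G = 3628800 ∨ Nat.card G = 1814400) (hJ : Spor.IsoJ2 M) (hm : Nat.card M = 604800)
    (hZ : ∀ g : G, 225 ∣ co g → g ∈ center G) (hZ1 : center G = ⊥) :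
    False := by
  have hMn := D.normal
  obtain ⟨e⟩ := hJ
  have hc := card_eq N M
  rw [hm] at hc
  have e1 : Nat.card G = 604800 * (Nat.card N * M.index) := by rw [hc]; ring
  -- the index
  have hfin : Finite Spor.J2 := Finite.of_equiv _ e.toEquiv
  have hcJ : Nat.card Spor.J2 = 604800 := by rw [← Nat.card_congr e.toEquiv, hm]
  have hidx : M.index ∣ 2 := by
    let φ : (G ⧸ N) →* MulAut Spor.J2 :=
      (MulAut.congr e).toMonoidHom.comp (MulAut.conjNormal : (G ⧸ N) →* MulAut M)
    have hφ : Function.Injective φ := (MulAut.congr e).injective.comp D.conj_injective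
    have h1 := Subgroup.card_dvd_of_injective φ hφ
    rw [← (Inn Spor.J2).card_mul_index, Subgroup.index_eq_card] at h1
    have h2 : Nat.card (MulAut Spor.J2 ⧸ Inn Spor.J2) = 2 := Cfsg.Agent.S2066.result
    rw [h2] at h1
    have h3 : Nat.card (Inn Spor.J2) ∣ Nat.card Spor.J2 := Subgroup.card_range_dvd _
    have h4 := h1.trans (Nat.mul_dvd_mul_right h3 2)
    rw [hcJ, ← M.card_mul_index, hm] at h4
    exact Nat.dvd_of_mul_dvd_mul_left (by norm_num) h4
  have hNi : Nat.card N * M.index = 6 ∨ Nat.card N * M.index = 3 := by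
    rcases hcard with h1 | h1
    · left
      omega
    · right
      omega
  have h3N : (Nat.card N).factorization 3 = 1 := by
    have hN : Nat.card N = 6 ∨ Nat.card N = 3 := by
      rcases (Nat.dvd_prime Nat.prime_two).1 hidx with h3 | h3 <;> rw [h3] at hNi <;> omega
    rcases hN with h1 | h1 <;> rw [h1]
    · rw [show (6 : ℕ) = 2 * 3 by norm_num, Nat.factorization_mul (by norm_num) (by norm_num), Finsupp.add_apply,
        Nat.Prime.factorization Nat.prime_two, Nat.Prime.factorization Nat.prime_three]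
      simp
    · rw [Nat.Prime.factorization Nat.prime_three]
      simp
  obtain ⟨h3', h5, h7, h11⟩ := nums
  have hidxN : 7 ∣ N.index := by
    rw [Subgroup.index_eq_card, ← M.card_mul_index]
    exact (D.primes 7 h7 (by norm_num) (by norm_num)).mul_right _
  obtain ⟨S, Q, hSN, hfrat, hcardS, hqQ, hQS⟩ := exists_normalizing' h7 h3' N hidxN
  obtain ⟨x, hx, hxo⟩ := exists_centralizing h7 h3' (by norm_num) hqQ hcardS hQS (by
    rw [h3N]
    decide)
  have hN6 : Nat.card N ∣ 6 := by
    rcases hNi with h | h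
    · exact ⟨M.index, h.symm⟩
    · exact ⟨2 * M.index, by
          have : Nat.card N * (2 * M.index) = 2 * (Nat.card N * M.index) := by ring
          omega⟩
  have hxN : x ∉ N := by
    intro hxN
    have h6 : orderOf (⟨x, hxN⟩ : N) ∣ Nat.card N := orderOf_dvd_natCard _
    rw [← Subgroup.orderOf_coe] at h6
    change orderOf x ∣ _ at h6
    rw [hxo] at h6
    have := h6.trans hN6
    revert this
    decide
  -- the centralizer
  have : Fact (Nat.Prime 3) := ⟨h3'⟩
  have : Fact (Nat.Prime 5) := ⟨h5⟩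
  obtain ⟨z, hz⟩ := exists_prime_orderOf_dvd_card' 3 (by rw [hcardS, h3N]; decide : 3 ∣ Nat.card S)
  have hz' : orderOf (z : G) = 3 := by rw [Subgroup.orderOf_coe, hz]
  have hM := D.le_map_centralizer hfrat hx hxN
  have hM' : M ≤ (centralizer ({(z : G)} : Set G)).map (QuotientGroup.mk' N) := by
    refine hM.trans (Subgroup.map_mono ?_)
    apply centralizer_le
    rintro _ rfl
    exact z.2
  obtain ⟨u, hu⟩ : (15 : ℕ) ∈ Set.range (orderOf : Spor.J2 → ℕ) := by
    rw [Cfsg.Agent.H379.J2Spec.range_J2]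
    decide
  have hu' : orderOf (e.symm u) = 15 := by rw [MulEquiv.orderOf_eq]; exact hu
  obtain ⟨c, hc, hcu⟩ := hM' (e.symm u).2
  have hcz : Commute c (z : G) := mem_cent.1 hc
  have hco : orderOf (QuotientGroup.mk' N c) = 15 := by
    rw [hcu, Subgroup.orderOf_coe, hu']
  -- the element of order five
  have h15c : 15 ∣ orderOf c := by
    rw [← hco]
    exact orderOf_map_dvd _ c
  obtain ⟨k, hk⟩ := h15c
  have hk0 : k ≠ 0 := by
    rintro rfl
    rw [mul_zero] at hk
    exact (orderOf_pos c).ne' hk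
  have hf5 : orderOf (c ^ (3 * k)) = 5 := by
    rw [orderOf_pow_of_dvd (by omega) ⟨5, by rw [hk]; ring⟩, hk, show 15 * k = 5 * (3 * k) by ring]
    exact Nat.mul_div_cancel _ (by omega)
  set f : G := c ^ (3 * k) with hf
  have hcf : Commute c f := (Commute.refl c).pow_right _
  have hzf : Commute (z : G) f := hcz.symm.pow_right _
  -- `9` divides the order of the centralizer of `f`
  have h9 : 9 ∣ co f := by
    have hcm : c ∈ centralizer ({f} : Set G) := mem_cent.2 hcf
    have hzm : (z : G) ∈ centralizer ({f} : Set G) := mem_cent.2 hzf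
    -- the restriction of the quotient map
    let ψ : centralizer ({f} : Set G) →* (G ⧸ N) := (QuotientGroup.mk' N).comp (centralizer ({f} : Set G)).subtype
    have h1 : co f = Nat.card ψ.ker * Nat.card ψ.range := by
      have := ψ.ker.card_mul_index
      rw [Subgroup.index_ker] at this
      exact this.symm
    rw [h1, show (9 : ℕ) = 3 * 3 by norm_num]
    apply Nat.mul_dvd_mul
    · have h2 : (⟨z, hzm⟩ : centralizer ({f} : Set G)) ∈ ψ.ker := by
        rw [MonoidHom.mem_ker]
        exact (QuotientGroup.eq_one_iff (z : G)).2 (hSN z.2)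
      have h3 : orderOf (⟨_, h2⟩ : ψ.ker) = 3 := by
        rw [← Subgroup.orderOf_coe, ← Subgroup.orderOf_coe]
        exact hz'
      rw [← h3]
      exact orderOf_dvd_natCard _
    · have h3 : orderOf (⟨ψ ⟨c, hcm⟩, ⟨_, rfl⟩⟩ : ψ.range) = 15 := by
        rw [← Subgroup.orderOf_coe]
        exact hco
      have h4 : (15 : ℕ) ∣ Nat.card ψ.range := by
        rw [← h3]
        exact orderOf_dvd_natCard _
      exact (show 3 ∣ 15 by decide).trans h4
  -- `25` divides the order of the centralizer of `f`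
  have h25 : 25 ∣ co f := by
    have hfac : (Nat.card G).factorization 5 = 2 := by
      have h1 : 5 ^ 2 ∣ Nat.card G := by
        rcases hcard with h | h <;> rw [h] <;> decide
      have h2 : ¬ 5 ^ 3 ∣ Nat.card G := by
        rcases hcard with h | h <;> rw [h] <;> decide
      rw [h5.pow_dvd_iff_le_factorization Nat.card_pos.ne'] at h1 h2
      omega
    have hp : IsPGroup 5 (zpowers f) := by
      apply IsPGroup.of_card (n := 1)
      rw [Nat.card_zpowers, hf5, pow_one]
    obtain ⟨P, hP⟩ := hp.exists_le_sylow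
    have hPc : Nat.card P = 5 ^ 2 := by
      rw [P.card_eq_multiplicity, hfac]
    have hcomm := IsPGroup.commutative_of_card_eq_prime_sq hPc
    have hle : (P : Subgroup G) ≤ centralizer ({f} : Set G) := by
      intro y hy
      rw [mem_cent]
      have hfP : f ∈ (P : Subgroup G) := hP (mem_zpowers f)
      exact congrArg Subtype.val (hcomm ⟨y, hy⟩ ⟨f, hfP⟩)
    have h3 : Nat.card P ∣ co f := Subgroup.card_dvd_of_le hle
    rw [hPc] at h3
    exact h3
  have h225 : 225 ∣ co f := by
    have := Nat.Coprime.mul_dvd_of_dvd_of_dvd (by decide : Nat.Coprime 9 25) h9 h25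
    exact this
  have h1 := hZ f h225
  rw [hZ1, mem_bot] at h1
  rw [h1, orderOf_one] at hf5
  omega

end

end Cfsg.Agent.H367.ClsFin
end

-- part: H367/ClsMain
section
/-!
# Order and class sizes: the degrees `n ≤ 12` (helper367)
-/

set_option autoImplicit false

namespace Cfsg.Agent.H367.ClsMain

open Cfsg Cfsg.Agent.OrdDiv Cfsg.Agent.H357.Reduce Cfsg.Agent.H363.Frat Cfsg.Agent.H363.AltPrimes
open Cfsg.Agent.H367.ClsGrp Cfsg.Agent.H367.ClsSmall Cfsg.Agent.H367.ClsFin Cfsg.Agent.H367.ClsList Subgroup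

universe u

/-- the possible sections in degree `n` -/
def Poss (n : ℕ) (g : Grp) : Prop :=
  g = .alt n ∨ (n = 5 ∧ g = .psl 2 4) ∨ (n = 5 ∧ g = .psl 2 5) ∨ (n = 6 ∧ g = .psl 2 9) ∨ (n = 8 ∧ g = .psl 4 2) ∨
    (n = 8 ∧ g = .psl 3 4) ∨ (n = 8 ∧ g = .alt 7) ∨ (n = 10 ∧ g = .j2)

instance clsMainDecPoss (n : ℕ) (g : Grp) : Decidable (Poss n g) := by unfold Poss; infer_instance

/-- the second certificate -/
def check2 (n : ℕ) (L : List ℕ) (N : ℕ) (B : List ℕ) (out : List Grp) : Bool :=
  (out.all fun g => decide (Poss n g) && (List.range (n + 1)).all fun q =>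
    !(isPrimeB q) || !(Nat.blt n (2 * q)) || ordN g % q == 0) &&
  (!(n == 6) || !(N == 720) || L.contains 6) && (!(n == 8) || L.contains 15 && B == [7]) &&
  (!(n == 10) || L.all fun c => !(c % 225 == 0) || c == N)

theorem isPrimeB_of {q : ℕ} (hq : q.Prime) (h : q ≤ 12) : isPrimeB q = true := by
  interval_cases q <;> first | decide | (exfalso; revert hq; decide)

theorem core (T : OrderTable.{u}) {G : Type u} [Group G] [Finite G]
    (hcl : ∀ (S : Type u) [Group S] [Finite S] [IsSimpleGroup S], IsKnownSimple' S)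
    {L : List ℕ} (h : CSet G L) {n p : ℕ} {B : List ℕ} {l : List (ℕ × ℕ)} {conds : List (ℕ × ℕ × ℕ)} {out : List Grp}
    (hn : 5 ≤ n) (hn2 : n ≤ 12) (hcard : Nat.card G = n.factorial ∨ 2 * Nat.card G = n.factorial)
    (hc : check L (Nat.card G) p B l conds out = true) (hc2 : check2 n L (Nat.card G) B out = true)
    (hp7 : n = 8 → p = 7) :
    Nonempty (G ≃* Equiv.Perm (Fin n)) ∨ Nonempty (G ≃* alternatingGroup (Fin n)) := by
  obtain ⟨hZ, hp, hB, N, hN, M, D0, hnab, g, hg, hr, ho⟩ := exists_sec T hcl h hc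
  unfold check2 at hc2
  simp only [Bool.and_eq_true, Bool.or_eq_true, Bool.not_eq_true', beq_eq_false_iff_ne, beq_iff_eq,
    List.contains_iff_mem, List.all_eq_true, decide_eq_true_eq] at hc2
  obtain ⟨⟨⟨hout, h6⟩, h8⟩, h10⟩ := hc2
  obtain ⟨hposs, hpr⟩ := hout g hg
  have D : Data G n N M := ⟨D0.normal, D0.simple, hnab, D0.cent hnab, fun q hq h1 h2 => by
    rw [ho]
    rcases hpr q (List.mem_range.2 (by omega)) with (h3 | h3) | h3
    · rw [isPrimeB_of hq (by omega)] at h3
      exact absurd h3 (by decide)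
    · exfalso
      have : Nat.blt n (2 * q) = true := by rw [Nat.blt_eq]; exact h1
      rw [this] at h3
      exact absurd h3 (by decide)
    · exact Nat.dvd_of_mod_eq_zero h3⟩
  -- an element of order `6` or `15`
  have hone : ∀ c ∈ L, c < Nat.card G → ∃ x : G, co x = c ∧ x ≠ 1 := by
    intro c hcL hlt
    obtain ⟨x, hx⟩ := h.ex c hcL
    refine ⟨x, hx, ?_⟩
    rintro rfl
    have h1 : co (1 : G) = Nat.card G := by
      unfold co
      have h2 : centralizer ({1} : Set G) = ⊤ := by
        rw [eq_top_iff]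
        intro y _
        rw [mem_cent, mul_one, one_mul]
      rw [h2, Subgroup.card_top]
    omega
  -- the alternating section
  have key : Nonempty (M ≃* alternatingGroup (Fin n)) →
      Nonempty (G ≃* Equiv.Perm (Fin n)) ∨ Nonempty (G ≃* alternatingGroup (Fin n)) := by
    rintro ⟨e⟩
    have hm : 2 * Nat.card M = n.factorial := by
      rw [Nat.card_congr e.toEquiv]
      exact Cfsg.Agent.H363.AltPrimes.card_alternating (by omega)
    apply fin_eq hZ hcard e hm
    intro hcG
    by_cases h6n : n = 6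
    · subst h6n
      have h720 : Nat.card G = 720 := hcG
      obtain ⟨x, hx, hx1⟩ := hone 6 (by simpa [h720] using h6) (by rw [hcG]; decide)
      obtain ⟨y, hy⟩ := exists_order_of_co Nat.prime_two Nat.prime_three (by norm_num) (g := x) hx hx1
      refine D.hom_six e (by rw [hcG]; decide) ?_ y hy
      have : Nat.factorial 6 = 720 := by decide
      omega
    · exact D.exists_hom' (by omega) h6n e
  rcases hposs with rfl | ⟨rfl, rfl⟩ | ⟨rfl, rfl⟩ | ⟨rfl, rfl⟩ | ⟨rfl, rfl⟩ | ⟨rfl, rfl⟩ | ⟨rfl, rfl⟩ | ⟨rfl, rfl⟩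
  · exact key hr
  · obtain ⟨F, _, _, hF, ⟨e⟩⟩ := hr
    obtain ⟨e'⟩ := Cfsg.Agent.S0252.result hF
    exact key ⟨e.trans e'⟩
  · obtain ⟨F, _, _, hF, ⟨e⟩⟩ := hr
    obtain ⟨e'⟩ := Cfsg.Agent.S0253.result hF
    exact key ⟨e.trans e'⟩
  · obtain ⟨F, _, _, hF, ⟨e⟩⟩ := hr
    obtain ⟨e'⟩ := Cfsg.Agent.S0254.result hF
    exact key ⟨e.trans e'⟩
  · obtain ⟨F, _, _, hF, ⟨e⟩⟩ := hr
    obtain ⟨e'⟩ := Cfsg.Agent.S0256.result hF
    exact key ⟨e.trans e'⟩
  · exfalso
    have h8' : 15 ∈ L ∧ B = [7] := by simpa using h8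
    have hcard' : Nat.card G = 40320 ∨ Nat.card G = 20160 := by
      have : Nat.factorial 8 = 40320 := by decide
      omega
    obtain ⟨x, hx, hx1⟩ := hone 15 h8'.1 (by omega)
    obtain ⟨y, hy⟩ := exists_order_of_co Nat.prime_three Nat.prime_five (by norm_num) (g := x) hx hx1
    exact false_psl D.normal hcard' hr (ho.trans (by decide)) hy
  · exfalso
    have h8' : 15 ∈ L ∧ B = [7] := by simpa using h8
    have hcard' : Nat.card G = 40320 ∨ Nat.card G = 20160 := by
      have : Nat.factorial 8 = 40320 := by decide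
      omega
    obtain ⟨e⟩ := hr
    refine false_seven D hcard' ?_ e
    intro x hx
    have := hB x (by rw [hx, hp7 rfl])
    rw [h8'.2] at this
    exact List.mem_singleton.1 this
  · exfalso
    have hcard' : Nat.card G = 3628800 ∨ Nat.card G = 1814400 := by
      have : Nat.factorial 10 = 3628800 := by decide
      omega
    refine false_janko D hcard' hr (ho.trans (by decide)) ?_ hZ
    intro x hx
    rcases h10 with h10 | h10
    · exact absurd rfl h10
    · rcases h10 (co x) (h.mem x) with h11 | h11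
      · exact absurd (Nat.mod_eq_zero_of_dvd hx) h11
      · have h2 : centralizer ({x} : Set G) = ⊤ := Subgroup.eq_top_of_card_eq _ h11
        rw [mem_center_iff]
        intro g
        have h3 : g ∈ centralizer ({x} : Set G) := by rw [h2]; exact mem_top g
        exact mem_cent.1 h3

/-! ### the certificates -/

def dS : ℕ → ℕ × List ℕ × List (ℕ × ℕ) × List (ℕ × ℕ × ℕ) × List Grp
  | 5 => (5, [5], [(2, 3), (3, 1), (5, 1)], [(2, 3, 2), (3, 1, 0)], [.alt 5, .psl 2 4, .psl 2 5])
  | 6 => (5, [5], [(2, 4), (3, 2), (5, 1)], [(2, 4, 2), (3, 2, 0)], [.alt 6, .psl 2 9])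
  | 7 => (7, [7], [(2, 4), (3, 2), (5, 1), (7, 1)], [(3, 2, 1), (5, 1, 0)], [.alt 7])
  | 8 => (7, [7], [(2, 7), (3, 2), (5, 1), (7, 1)], [(3, 2, 1), (5, 1, 0)], [.alt 7, .alt 8, .psl 4 2, .psl 3 4])
  | 9 => (7, [14], [(2, 7), (3, 4), (5, 1), (7, 1)], [(3, 4, 1), (5, 1, 0)], [.alt 9])
  | 10 => (7, [14, 21, 42], [(2, 8), (3, 4), (5, 2), (7, 1)], [(5, 2, 0)], [.alt 10, .j2])
  | 11 => (11, [11], [(2, 8), (3, 4), (5, 2), (7, 1), (11, 1)], [(2, 8, 1), (3, 4, 0), (5, 2, 1), (7, 1, 0)], [.alt 11])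
  | 12 => (11, [11], [(2, 10), (3, 5), (5, 2), (7, 1), (11, 1)], [(2, 10, 1), (5, 2, 1), (7, 1, 0)], [.alt 12])
  | _ => (0, [], [], [], [])

def dA : ℕ → ℕ × List ℕ × List (ℕ × ℕ) × List (ℕ × ℕ × ℕ) × List Grp
  | 5 => (5, [5], [(2, 2), (3, 1), (5, 1)], [(3, 1, 0)], [.alt 5, .psl 2 4, .psl 2 5])
  | 6 => (5, [5], [(2, 3), (3, 2), (5, 1)], [(2, 3, 2), (3, 2, 0)], [.alt 6, .psl 2 9])
  | 7 => (7, [7], [(2, 3), (3, 2), (5, 1), (7, 1)], [(2, 3, 1), (3, 2, 1), (5, 1, 0)], [.alt 7])
  | 8 => (7, [7], [(2, 6), (3, 2), (5, 1), (7, 1)], [(3, 2, 1), (5, 1, 0)], [.alt 7, .alt 8, .psl 4 2, .psl 3 4])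
  | 9 => (7, [7], [(2, 6), (3, 4), (5, 1), (7, 1)], [(3, 4, 1), (5, 1, 0)], [.alt 9])
  | 10 => (7, [21], [(2, 7), (3, 4), (5, 2), (7, 1)], [(5, 2, 0)], [.alt 10, .j2])
  | 11 => (11, [11], [(2, 7), (3, 4), (5, 2), (7, 1), (11, 1)], [(2, 7, 1), (3, 4, 0), (5, 2, 1), (7, 1, 0)], [.alt 11])
  | 12 => (11, [11], [(2, 9), (3, 5), (5, 2), (7, 1), (11, 1)], [(2, 9, 1), (5, 2, 1), (7, 1, 0)], [.alt 12])
  | _ => (0, [], [], [], [])

def certS (n : ℕ) : Bool := check (zl n n) n.factorial (dS n).1 (dS n).2.1 (dS n).2.2.1 (dS n).2.2.2.1 (dS n).2.2.2.2 &&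
  check2 n (zl n n) n.factorial (dS n).2.1 (dS n).2.2.2.2 && (!(n == 8) || (dS n).1 == 7)

def certA (n : ℕ) : Bool := check (altl n) (n.factorial / 2) (dA n).1 (dA n).2.1 (dA n).2.2.1 (dA n).2.2.2.1 (dA n).2.2.2.2 &&
  check2 n (altl n) (n.factorial / 2) (dA n).2.1 (dA n).2.2.2.2 && (!(n == 8) || (dA n).1 == 7)

theorem certS_5 : certS 5 = true := by decide +kernel
theorem certS_6 : certS 6 = true := by decide +kernel
theorem certS_7 : certS 7 = true := by decide +kernel
theorem certS_8 : certS 8 = true := by decide +kernel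
theorem certS_9 : certS 9 = true := by decide +kernel
theorem certS_10 : certS 10 = true := by decide +kernel
theorem certS_11 : certS 11 = true := by decide +kernel
theorem certS_12 : certS 12 = true := by decide +kernel
theorem certA_5 : certA 5 = true := by decide +kernel
theorem certA_6 : certA 6 = true := by decide +kernel
theorem certA_7 : certA 7 = true := by decide +kernel
theorem certA_8 : certA 8 = true := by decide +kernel
theorem certA_9 : certA 9 = true := by decide +kernel
theorem certA_10 : certA 10 = true := by decide +kernel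
theorem certA_11 : certA 11 = true := by decide +kernel
theorem certA_12 : certA 12 = true := by decide +kernel

theorem certS_all {n : ℕ} (h1 : 5 ≤ n) (h2 : n ≤ 12) : certS n = true := by
  interval_cases n
  · exact certS_5
  · exact certS_6
  · exact certS_7
  · exact certS_8
  · exact certS_9
  · exact certS_10
  · exact certS_11
  · exact certS_12

theorem certA_all {n : ℕ} (h1 : 5 ≤ n) (h2 : n ≤ 12) : certA n = true := by
  interval_cases n
  · exact certA_5
  · exact certA_6
  · exact certA_7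
  · exact certA_8
  · exact certA_9
  · exact certA_10
  · exact certA_11
  · exact certA_12

theorem card_perm (n : ℕ) : Nat.card (Equiv.Perm (Fin n)) = n.factorial := by
  rw [Nat.card_eq_fintype_card, Fintype.card_perm, Fintype.card_fin]

/-- degrees three and four: `3` and `2` are not adjacent -/
theorem nonAdj_three {G : Type*} [Group G] [Finite G] {L : List ℕ} (h : CSet G L) (hg : L.foldr Nat.gcd 0 = 1)
    (h9 : ¬ 3 ^ 2 ∣ Nat.card G) (hB : typeOk L 3 (Nat.card G) [3] = true) : NonAdj G 3 2 := by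
  apply nonAdj_of Nat.prime_three Nat.prime_two (B := [3]) (fun x hx => co_mem h hg Nat.prime_three h9 hB hx)
  intro b hb
  rw [List.mem_singleton] at hb
  subst hb
  decide

/-- **Symmetric groups of degree at most twelve** -/
theorem sym_small (T : OrderTable.{u}) (hcl : ∀ (S : Type u) [Group S] [Finite S] [IsSimpleGroup S], IsKnownSimple' S)
    {n : ℕ} (hn : n ≤ 12) {G : Type u} [Group G] [Finite G]
    (hcard : Nat.card G = Nat.card (Equiv.Perm (Fin n)))
    (hcs : Set.range (fun g : G => (Subgroup.centralizer ({g} : Set G)).index) =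
      Set.range (fun g : (Equiv.Perm (Fin n)) => (Subgroup.centralizer ({g} : Set (Equiv.Perm (Fin n)))).index)) :
    Nonempty (G ≃* Equiv.Perm (Fin n)) := by
  have h : CSet G (zl n n) := (cset_sym n).of_range hcard hcs
  have hcG := hcard
  rw [card_perm] at hcG
  have fin : Nonempty (G ≃* Equiv.Perm (Fin n)) ∨ Nonempty (G ≃* alternatingGroup (Fin n)) → 2 ≤ n →
      Nonempty (G ≃* Equiv.Perm (Fin n)) := by
    rintro (h1 | ⟨⟨e⟩⟩) h2
    · exact h1
    · exfalso
      have h3 := Cfsg.Agent.H363.AltPrimes.card_alternating h2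
      rw [← Nat.card_congr e.toEquiv, hcG] at h3
      have := n.factorial_pos
      omega
  rcases Nat.lt_or_ge n 5 with hn5 | hn5
  · interval_cases n
    · exact equiv_of_card_one hcG (card_perm 0)
    · exact equiv_of_card_one hcG (card_perm 1)
    · have : Fact (Nat.Prime 2) := ⟨Nat.prime_two⟩
      exact ⟨mulEquivOfPrimeCardEq (p := 2) hcG (card_perm 2)⟩
    · refine fin (of_embed (Or.inl hcG) (embed_three hcG ?_)) (by norm_num)
      exact nonAdj_three h (by decide +kernel) (by rw [hcG]; decide +kernel) (by rw [hcG]; decide +kernel)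
    · refine fin (of_embed (Or.inl hcG) (embed_four (Or.inl hcG) ?_)) (by norm_num)
      exact nonAdj_three h (by decide +kernel) (by rw [hcG]; decide +kernel) (by rw [hcG]; decide +kernel)
  · have hc := certS_all hn5 hn
    unfold certS at hc
    rw [← hcG] at hc
    simp only [Bool.and_eq_true] at hc
    refine fin (core T hcl h hn5 hn (Or.inl hcG) hc.1.1 hc.1.2 ?_) (by omega)
    intro h8
    have := hc.2
    rw [h8] at this ⊢
    simpa using this

/-- **Alternating groups of degree at most twelve** -/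
theorem alt_small (T : OrderTable.{u}) (hcl : ∀ (S : Type u) [Group S] [Finite S] [IsSimpleGroup S], IsKnownSimple' S)
    {n : ℕ} (hn : n ≤ 12) {G : Type u} [Group G] [Finite G]
    (hcard : Nat.card G = Nat.card (alternatingGroup (Fin n)))
    (hcs : Set.range (fun g : G => (Subgroup.centralizer ({g} : Set G)).index) =
      Set.range (fun g : (alternatingGroup (Fin n)) =>
        (Subgroup.centralizer ({g} : Set (alternatingGroup (Fin n)))).index)) :
    Nonempty (G ≃* alternatingGroup (Fin n)) := by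
  have h : CSet G (altl n) := (cset_alt n).of_range hcard hcs
  have hca : 2 ≤ n → 2 * Nat.card (alternatingGroup (Fin n)) = n.factorial := fun h =>
    Cfsg.Agent.H363.AltPrimes.card_alternating h
  have fin : Nonempty (G ≃* Equiv.Perm (Fin n)) ∨ Nonempty (G ≃* alternatingGroup (Fin n)) → 2 ≤ n →
      Nonempty (G ≃* alternatingGroup (Fin n)) := by
    rintro (⟨⟨e⟩⟩ | h1) h2
    · exfalso
      have h3 := hca h2
      rw [← hcard, Nat.card_congr e.toEquiv, card_perm] at h3
      have := n.factorial_pos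
      omega
    · exact h1
  rcases Nat.lt_or_ge n 5 with hn5 | hn5
  · interval_cases n
    · have h0 : Nat.card (alternatingGroup (Fin 0)) = 1 := by
        rw [Nat.card_eq_fintype_card]
        decide
      exact equiv_of_card_one (hcard.trans h0) h0
    · have h0 : Nat.card (alternatingGroup (Fin 1)) = 1 := by
        rw [Nat.card_eq_fintype_card]
        decide
      exact equiv_of_card_one (hcard.trans h0) h0
    · have h0 : Nat.card (alternatingGroup (Fin 2)) = 1 := by
        have := hca le_rfl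
        have h3 : Nat.factorial 2 = 2 := rfl
        omega
      exact equiv_of_card_one (hcard.trans h0) h0
    · have h0 : Nat.card (alternatingGroup (Fin 3)) = 3 := by
        have := hca (by norm_num)
        have h3 : Nat.factorial 3 = 6 := rfl
        omega
      have : Fact (Nat.Prime 3) := ⟨Nat.prime_three⟩
      exact ⟨mulEquivOfPrimeCardEq (p := 3) (hcard.trans h0) h0⟩
    · have h0 : Nat.card (alternatingGroup (Fin 4)) = 12 := by
        have := hca (by norm_num)
        have h3 : Nat.factorial 4 = 24 := rfl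
        omega
      have hcG := hcard.trans h0
      refine fin (of_embed (Or.inr (by rw [hcG]; rfl)) (embed_four (Or.inr hcG) ?_)) (by norm_num)
      exact nonAdj_three h (by decide +kernel) (by rw [hcG]; decide +kernel) (by rw [hcG]; decide +kernel)
  · have hcG : Nat.card G = n.factorial / 2 := by
      have := hca (by omega)
      rw [hcard]
      omega
    have hc := certA_all hn5 hn
    unfold certA at hc
    rw [← hcG] at hc
    simp only [Bool.and_eq_true] at hc
    refine fin (core T hcl h hn5 hn (Or.inr ?_) hc.1.1 hc.1.2 ?_) (by omega)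
    · rw [hcard]
      exact hca (by omega)
    · intro h8
      have := hc.2
      rw [h8] at this ⊢
      simpa using this

end Cfsg.Agent.H367.ClsMain
end
end
end
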